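import Cfsg.Agent.CaminaPair.Key
import Cfsg.Agent.Coprime.Sylow

/-!
A Camina pair `(P, Q)` of `p`-groups acting coprimely on a finite group, fixed-point-freely
outside `Q`: `Q` acts trivially for odd `p`, and the squares of `Q` act trivially for `p = 2`.
-/

set_option autoImplicit false
set_option linter.style.haveILetI false
set_option linter.unusedSectionVars false

namespace CfsgLib.CaminaPair.Action

open CfsgLib.Coprime
open scoped commutatorElement

variable {P : Type*} [Group P] [Finite P] {Q : Subgroup P} [Q.Normal] {p : ℕ} [hp : Fact p.Prime]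

/-- The action on an abelian group of exponent `r` as linear endomorphisms. -/
def linAct (r : ℕ) (U : Type*) [CommGroup U] [MulDistribMulAction P U]
    [Module (ZMod r) (Additive U)] : P →* Module.End (ZMod r) (Additive U) where
  toFun a := AddMonoidHom.toZModLinearMap r
    (MonoidHom.toAdditive (MulDistribMulAction.toMonoidHom U a))
  map_one' := LinearMap.ext fun u => by
    show Additive.ofMul ((1 : P) • Additive.toMul u) = u
    rw [one_smul, ofMul_toMul]
  map_mul' a b := LinearMap.ext fun u => by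
    show Additive.ofMul ((a * b) • Additive.toMul u) = Additive.ofMul (a • b • Additive.toMul u)
    rw [mul_smul]

theorem linAct_apply (r : ℕ) (U : Type*) [CommGroup U] [MulDistribMulAction P U]
    [Module (ZMod r) (Additive U)] (a : P) (x : U) :
    linAct r U a (Additive.ofMul x) = Additive.ofMul (a • x) := rfl

/-- The statement for an abelian group of prime exponent. -/
theorem trivial_on_elementary (hP : IsPGroup p P)
    (hcam : ∀ g : P, g ∉ Q → ∀ q ∈ Q, ∃ y : P, y * g * y⁻¹ = g * q) (hQ1 : Q ≠ ⊥) (hQtop : Q ≠ ⊤)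
    {r : ℕ} [hr : Fact r.Prime] (hrp : r ≠ p) (U : Type*) [CommGroup U] [Finite U]
    [MulDistribMulAction P U] [Module (ZMod r) (Additive U)]
    (hfpf : ∀ h : P, h ∉ Q → ∀ x : U, h • x = x → x = 1) {L : Subgroup P} [L.Normal] (hLQ : L ≤ Q)
    (hL2 : p = 2 → L ≤ Subgroup.closure {x : P | ∃ q ∈ Q, x = q * q}) :
    ∀ l ∈ L, ∀ x : U, l • x = x := by
  classical
  haveI := hP.isNilpotent
  set act := linAct (P := P) r U with hactdef
  have hker : ∀ a : P, a ∈ act.ker → ∀ x : U, a • x = x := by
    intro a ha x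
    rw [MonoidHom.mem_ker] at ha
    have h2 := linAct_apply r U a x
    rw [← hactdef, ha] at h2
    exact Additive.ofMul.injective h2.symm
  by_contra hno
  have hLK : L ⊓ act.ker < L := by
    refine lt_of_le_of_ne inf_le_left fun he => hno fun l hl x => hker l ?_ x
    rw [← he] at hl
    exact hl.2
  obtain ⟨x₀, hx₀L, hx₀K, hx₀c⟩ := CfsgLib.PGroupBasic.exists_central_mod (L ⊓ act.ker) L hLK
  have hx₀act : act x₀ ≠ 1 := fun h => hx₀K ⟨hx₀L, h⟩
  obtain ⟨e₀, he₀⟩ := IsPGroup.iff_orderOf.1 (hP.to_quotient act.ker) (x₀ : P ⧸ act.ker)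
  obtain ⟨e, rfl⟩ : ∃ e, e₀ = e + 1 := by
    refine ⟨e₀ - 1, (Nat.succ_pred_eq_of_ne_zero ?_).symm⟩
    rintro rfl
    exact hx₀act ((QuotientGroup.eq_one_iff x₀).1 (orderOf_eq_one_iff.1 (he₀.trans (pow_zero p))))
  set z : P := x₀ ^ p ^ e with hzdef
  have hz1 : act z ≠ 1 := by
    intro h
    have h1 := orderOf_dvd_of_pow_eq_one
      ((QuotientGroup.mk_pow act.ker x₀ _).symm.trans ((QuotientGroup.eq_one_iff _).2 h))
    rw [he₀] at h1
    exact absurd (Nat.le_of_dvd (pow_pos hp.out.pos _) h1)
      (not_le.2 (Nat.pow_lt_pow_right hp.out.one_lt (by omega)))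
  have hzp : act z ^ p = 1 := by
    rw [← map_pow, ← MonoidHom.mem_ker, hzdef, ← pow_mul, ← pow_succ, ← QuotientGroup.eq_one_iff,
      QuotientGroup.mk_pow, ← he₀, pow_orderOf_eq_one]
  have hzc : ∀ a : P, Commute (act z) (act a) := by
    intro a
    rw [hzdef, map_pow]
    refine Commute.pow_left ?_ _
    have h1 : act (x₀ * a * x₀⁻¹ * a⁻¹) = 1 := (hx₀c a).2
    have e1 : x₀ * a = x₀ * a * x₀⁻¹ * a⁻¹ * (a * x₀) := by group
    show act x₀ * act a = act a * act x₀
    rw [← map_mul, ← map_mul]
    conv_lhs => rw [e1, map_mul, h1, one_mul]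
  -- extend the scalars
  haveI : Finite (Additive U) := inferInstanceAs (Finite U)
  haveI : Module.Finite (ZMod r) (Additive U) := Module.Finite.of_finite
  let k := AlgebraicClosure (ZMod r)
  let d := Module.finrank (ZMod r) (Additive U)
  let b : Module.Basis (Fin d) (ZMod r) (Additive U) := Module.finBasis (ZMod r) (Additive U)
  let f : Module.End (ZMod r) (Additive U) →+* Module.End k (Fin d → k) :=
    ((Matrix.toLinAlgEquiv' (R := k) (n := Fin d)).toRingEquiv.toRingHom.comp
      ((algebraMap (ZMod r) k).mapMatrix (m := Fin d))).comp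
        (LinearMap.toMatrixAlgEquiv b).toRingEquiv.toRingHom
  have hfinj : Function.Injective f := fun g g' h =>
    (LinearMap.toMatrixAlgEquiv b).injective
      (Matrix.map_injective (algebraMap (ZMod r) k).injective (Matrix.toLinAlgEquiv'.injective h))
  let ρ₀ : Representation k P (Fin d → k) := f.toMonoidHom.comp act
  have hfpf₀ : ∀ h : P, h ∉ Q → ∀ v, ρ₀ h v = v → v = 0 := by
    intro h hh v hv
    have hinj : Function.Injective ⇑(act h - 1 : Module.End (ZMod r) (Additive U)) := by
      rw [← LinearMap.ker_eq_bot, LinearMap.ker_eq_bot']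
      intro u hu
      have hu' : act h u = u := by simpa [sub_eq_zero] using hu
      have h3 : h • Additive.toMul u = Additive.toMul u := congrArg Additive.toMul hu'
      exact congrArg Additive.ofMul (hfpf h hh _ h3)
    have hunit : IsUnit (act h - 1) :=
      (Module.End.isUnit_iff _).2 ⟨hinj, LinearMap.injective_iff_surjective.1 hinj⟩
    have h2 := ((Module.End.isUnit_iff _).1 (hunit.map f)).1
    refine h2 ?_
    show f (act h - 1) v = f (act h - 1) 0
    rw [map_zero, map_sub, map_one, LinearMap.sub_apply]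
    show ρ₀ h v - v = 0
    rw [hv, sub_self]
  set T : Module.End k (Fin d → k) := f (act z) with hTdef
  have hT1 : T ≠ 1 := fun h => hz1 (hfinj (h.trans (map_one f).symm))
  have hTp : T ^ p = 1 := by rw [hTdef, ← map_pow, hzp, map_one]
  have hTc : ∀ a : P, Commute T (ρ₀ a) := fun a => (hzc a).map f
  have hTit : ∀ (j : ℕ) (w : Fin d → k) (μ : k), T w = μ • w → (T ^ j) w = μ ^ j • w := by
    intro j w μ hw
    induction j with
    | zero => simp
    | succ j ih => rw [pow_succ', Module.End.mul_apply, ih, map_smul, hw, smul_smul, pow_succ]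
  have hpk : (p : k) ≠ 0 := by
    intro h0
    haveI : CharP k r := charP_of_injective_algebraMap (algebraMap (ZMod r) k).injective r
    exact hrp ((Nat.prime_dvd_prime_iff_eq hr.out hp.out).1 ((CharP.cast_eq_zero_iff k r p).1 h0))
  set V₁ : Submodule k (Fin d → k) := LinearMap.range (T - 1)
  have hV₁ : V₁ ≠ ⊥ := fun h => hT1 (sub_eq_zero.1 (LinearMap.range_eq_bot.1 h))
  haveI : Nontrivial V₁ := Submodule.nontrivial_iff_ne_bot.2 hV₁
  have hV₁i : ∀ v ∈ V₁, T v ∈ V₁ := by
    rintro _ ⟨u, rfl⟩
    exact ⟨T u, by simp [map_sub]⟩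
  obtain ⟨ω, hω⟩ := Module.End.exists_eigenvalue (T.restrict (p := V₁) (q := V₁) hV₁i)
  obtain ⟨w, hw⟩ := hω.exists_hasEigenvector
  have hwT : T (w : Fin d → k) = ω • (w : Fin d → k) := by
    simpa using congrArg Subtype.val hw.apply_eq_smul
  have hw0 : (w : Fin d → k) ≠ 0 := fun h => hw.2 (Subtype.ext h)
  have hωp : ω ^ p = 1 := by
    have h1 := hTit p _ ω hwT
    rw [hTp, Module.End.one_apply] at h1
    exact smul_left_injective k hw0 (h1.symm.trans (one_smul k _).symm)
  have hω1 : ω ≠ 1 := by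
    rintro rfl
    rw [one_smul] at hwT
    obtain ⟨u, hu⟩ := w.2
    have hTu : T u = u + (w : Fin d → k) := by rw [← hu]; simp
    have hj : ∀ j : ℕ, (T ^ j) u = u + (j : k) • (w : Fin d → k) := by
      intro j
      induction j with
      | zero => simp
      | succ j ih =>
        rw [pow_succ', Module.End.mul_apply, ih, map_add, map_smul, hwT, hTu, Nat.cast_succ, add_smul,
          one_smul]
        abel
    have := hj p
    rw [hTp, Module.End.one_apply, left_eq_add, smul_eq_zero] at this
    exact hw0 (this.resolve_left hpk)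
  set Vω : Submodule k (Fin d → k) := LinearMap.ker (T - ω • 1)
  have hmemω : ∀ {v}, v ∈ Vω ↔ T v = ω • v := by intro v; simp [Vω, sub_eq_zero]
  have hVωi : ∀ (a : P), ∀ v ∈ Vω, ρ₀ a v ∈ Vω := by
    intro a v hv
    rw [hmemω] at hv ⊢
    have := LinearMap.congr_fun (hTc a).eq v
    simp only [Module.End.mul_apply] at this
    rw [this, hv, map_smul]
  haveI : Nontrivial Vω := by
    refine Submodule.nontrivial_iff_ne_bot.2 fun h => hw0 ?_
    have h1 : (w : Fin d → k) ∈ Vω := hmemω.2 hwT
    rw [h] at h1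
    exact (Submodule.mem_bot k).1 h1
  let ρ : Representation k P Vω :=
    { toFun := fun a => (ρ₀ a).restrict (p := Vω) (q := Vω) (hVωi a)
      map_one' := LinearMap.ext fun v => Subtype.ext (by simp)
      map_mul' := fun a c => LinearMap.ext fun v => Subtype.ext (by simp) }
  have hPk : (Nat.card P : k) ≠ 0 := by
    obtain ⟨m, hm⟩ := hP.exists_card_eq
    rw [hm, Nat.cast_pow]
    exact pow_ne_zero m hpk
  exact Key.key ρ hP hcam hQ1 hQtop hPk
    (fun h hh v hv => Subtype.ext (hfpf₀ h hh v (congrArg Subtype.val hv)))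
    (hLQ (Subgroup.pow_mem _ hx₀L _) : z ∈ Q) (fun h2 => hL2 h2 (Subgroup.pow_mem _ hx₀L _))
    hω1 hωp (fun v => Subtype.ext (hmemω.1 v.2))

/-- The statement for a group of prime power order. -/
theorem trivial_on_pgroup (hP : IsPGroup p P)
    (hcam : ∀ g : P, g ∉ Q → ∀ q ∈ Q, ∃ y : P, y * g * y⁻¹ = g * q) (hQ1 : Q ≠ ⊥) (hQtop : Q ≠ ⊤)
    {R : Type*} [Group R] [Finite R] [MulDistribMulAction P R] {r : ℕ} [hr : Fact r.Prime]
    (hR : IsPGroup r R) (hrp : r ≠ p)
    (hfpf : ∀ h : P, h ∉ Q → ∀ x : R, h • x = x → x = 1) {L : Subgroup P} [L.Normal] (hLQ : L ≤ Q)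
    (hL2 : p = 2 → L ≤ Subgroup.closure {x : P | ∃ q ∈ Q, x = q * q}) :
    ∀ l ∈ L, ∀ x : R, l • x = x := by
  classical
  have hcop : (Nat.card P).Coprime (Nat.card R) := by
    obtain ⟨m, hm⟩ := hP.exists_card_eq
    obtain ⟨n, hn⟩ := hR.exists_card_eq
    rw [hm, hn]
    exact ((Nat.coprime_primes hp.out hr.out).2 hrp.symm).pow m n
  obtain ⟨hcom, hpow⟩ := CfsgLib.PGroupBasic.commutator_pow_le_frattini hR
  haveI hab : IsMulCommutative (R ⧸ frattini R) := ⟨⟨fun a b => by
    refine Quotient.inductionOn₂' a b fun a b => QuotientGroup.eq.2 (hcom ?_)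
    have e : (a * b)⁻¹ * (b * a) = ⁅b⁻¹, a⁻¹⁆ := by simp [commutatorElement_def, mul_assoc]
    rw [e]
    exact Subgroup.commutator_mem_commutator (Subgroup.mem_top _) (Subgroup.mem_top _)⟩⟩
  letI : CommGroup (R ⧸ frattini R) :=
    { (inferInstance : Group (R ⧸ frattini R)) with mul_comm := hab.is_comm.comm }
  letI := AddCommGroup.zmodModule (G := Additive (R ⧸ frattini R)) (n := r) fun u => by
    obtain ⟨x, hx⟩ := QuotientGroup.mk_surjective (Additive.toMul u)
    refine congrArg Additive.ofMul (?_ : (Additive.toMul u) ^ r = 1)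
    rw [← hx, ← QuotientGroup.mk_pow]
    exact (QuotientGroup.eq_one_iff _).2 (hpow x)
  have hinv : IsInvariant P (frattini R) := IsInvariant.of_characteristic _
  letI : MulDistribMulAction P (R ⧸ frattini R) :=
    { smul := fun a => QuotientGroup.map (frattini R) (frattini R)
        (MulDistribMulAction.toMonoidHom R a) (fun n hn => hinv a n hn)
      one_smul := fun u => Quotient.inductionOn' u fun x => congrArg QuotientGroup.mk (one_smul P x)
      mul_smul := fun a b u =>
        Quotient.inductionOn' u fun x => congrArg QuotientGroup.mk (mul_smul a b x)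
      smul_mul := fun a u v => map_mul (QuotientGroup.map (frattini R) (frattini R)
        (MulDistribMulAction.toMonoidHom R a) (fun n hn => hinv a n hn)) u v
      smul_one := fun a => map_one (QuotientGroup.map (frattini R) (frattini R)
        (MulDistribMulAction.toMonoidHom R a) (fun n hn => hinv a n hn)) }
  have hsmul : ∀ (a : P) (x : R),
      a • (x : R ⧸ frattini R) = ((a • x : R) : R ⧸ frattini R) := fun a x => rfl
  have hU := trivial_on_elementary hP hcam hQ1 hQtop hrp (R ⧸ frattini R) (fun h hh u hu => by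
    obtain ⟨x, rfl⟩ := QuotientGroup.mk_surjective u
    haveI : Group.IsSolvable (Subgroup.zpowers h) :=
      Group.isSolvable_of_comm fun a b => mul_comm' a b
    obtain ⟨c, hc, hcx⟩ := exists_fixed_mk_eq (A := Subgroup.zpowers h) (G := R)
      (hcop.coprime_dvd_left (Subgroup.card_subgroup_dvd_card _)) (frattini R)
      (fun a n hn => hinv (a : P) n hn) x (fun a => by
        have hmem : (a : P) ∈ MulAction.stabilizer P (x : R ⧸ frattini R) :=
          (Subgroup.zpowers_le.2 (show h ∈ MulAction.stabilizer P (x : R ⧸ frattini R) from hu)) a.2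
        exact (hsmul (a : P) x).symm.trans hmem)
    rw [← hcx, hfpf h hh c (hc ⟨h, Subgroup.mem_zpowers h⟩)]
    rfl) hLQ hL2
  intro l hl x
  exact smul_eq_self_of_trivial_mod_frattini (A := L) (G := R)
    (hcop.coprime_dvd_left (Subgroup.card_subgroup_dvd_card L))
    (fun a g => QuotientGroup.eq.1 ((hsmul (a : P) g).symm.trans (hU a a.2 (g : R ⧸ frattini R))).symm)
    ⟨l, hl⟩ x

/-- A coprime action on an arbitrary group. -/
theorem trivial_of_coprime (hP : IsPGroup p P)
    (hcam : ∀ g : P, g ∉ Q → ∀ q ∈ Q, ∃ y : P, y * g * y⁻¹ = g * q) (hQ1 : Q ≠ ⊥) (hQtop : Q ≠ ⊤)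
    {M : Type*} [Group M] [Finite M] [MulDistribMulAction P M]
    (hcop : (Nat.card P).Coprime (Nat.card M))
    (hfpf : ∀ h : P, h ∉ Q → ∀ x : M, h • x = x → x = 1) {L : Subgroup P} [L.Normal] (hLQ : L ≤ Q)
    (hL2 : p = 2 → L ≤ Subgroup.closure {x : P | ∃ q ∈ Q, x = q * q}) :
    ∀ l ∈ L, ∀ x : M, l • x = x := by
  haveI := hP.isNilpotent
  have hsol : Group.IsSolvable P := IsNilpotent.to_isSolvable
  intro l hl
  let F : Subgroup M :=
    { carrier := {x | l • x = x}
      one_mem' := smul_one l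
      mul_mem' := fun {a b} ha hb => by
        show l • (a * b) = a * b
        rw [smul_mul', show l • a = a from ha, show l • b = b from hb]
      inv_mem' := fun {a} ha => by
        show l • a⁻¹ = a⁻¹
        rw [smul_inv', show l • a = a from ha] }
  suffices hF : F = ⊤ by
    intro x
    exact (show x ∈ F from hF ▸ Subgroup.mem_top x)
  refine Subgroup.eq_top_of_le_card F (Nat.le_of_dvd Nat.card_pos ?_)
  rw [Nat.dvd_iff_prime_pow_dvd_dvd]
  intro r n hr hrn
  haveI : Fact r.Prime := ⟨hr⟩
  rcases n with _ | n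
  · simp
  obtain ⟨S, hS⟩ := exists_invariant_sylow (A := P) hcop r
  have hrp : r ≠ p := by
    rintro rfl
    obtain ⟨m, hm⟩ := hP.exists_card_eq
    have hne : Nat.card P ≠ 1 := fun h1 => by
      haveI : Subsingleton P := (Nat.card_eq_one_iff_unique.1 h1).1
      exact hQtop (eq_top_iff.2 fun x _ => by rw [Subsingleton.elim x 1]; exact Q.one_mem)
    have h1 : r ∣ Nat.card P := by
      rw [hm]
      exact dvd_pow_self r fun h => hne (by rw [hm, h, pow_zero])
    have h2 : r ∣ Nat.card M := dvd_trans (dvd_pow_self r (by omega)) hrn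
    exact hr.ne_one (Nat.eq_one_of_dvd_coprimes hcop h1 h2)
  letI : MulDistribMulAction P (S : Subgroup M) :=
    { smul := fun a x => ⟨a • (x : M), hS a x x.2⟩
      one_smul := fun x => Subtype.ext (one_smul P (x : M))
      mul_smul := fun a c x => Subtype.ext (mul_smul a c (x : M))
      smul_mul := fun a x y => Subtype.ext (smul_mul' a (x : M) (y : M))
      smul_one := fun a => Subtype.ext (smul_one a : a • (1 : M) = 1) }
  have hSF : (S : Subgroup M) ≤ F := fun x hx => congrArg Subtype.val
    (trivial_on_pgroup hP hcam hQ1 hQtop (R := (S : Subgroup M)) S.isPGroup' hrp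
      (fun h hh y hy => Subtype.ext (hfpf h hh y (congrArg Subtype.val hy))) hLQ hL2 l hl ⟨x, hx⟩)
  refine dvd_trans ?_ (Subgroup.card_dvd_of_le hSF)
  rw [Sylow.card_eq_multiplicity]
  exact pow_dvd_pow r ((hr.pow_dvd_iff_le_factorization Nat.card_pos.ne').1 hrn)

end CfsgLib.CaminaPair.Action
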