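import Cfsg.Agent.CaminaPair.PermCount

/-!
The algebra spanned by the class sums of a finite group inside a normal subgroup, over an
algebraically closed field of coprime characteristic: its homomorphisms to the field are as many as
the classes, equivariantly for any permutation of prime order.
-/

set_option autoImplicit false
set_option linter.style.haveILetI false
set_option linter.unusedSectionVars false

namespace CfsgLib.CaminaPair.ClassAlgebra

open MonoidAlgebra

variable {Q : Type*} [Group Q] (k : Type*) [Field k]

/-- Central elements of the group algebra supported on `N`. -/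
noncomputable def classAlg (N : Subgroup Q) : Subalgebra k (MonoidAlgebra k Q) where
  carrier := {c | (∀ q r : Q, c.coeff (q * r * q⁻¹) = c.coeff r) ∧ ∀ q, q ∉ N → c.coeff q = 0}
  add_mem' := by
    rintro a b ⟨ha, ha'⟩ ⟨hb, hb'⟩
    exact ⟨fun q r => by simp [coeff_add, ha q r, hb q r],
      fun q hq => by simp [coeff_add, ha' q hq, hb' q hq]⟩
  mul_mem' := by
    classical
    rintro a b ⟨ha, ha'⟩ ⟨hb, hb'⟩
    have hcen : ∀ c : MonoidAlgebra k Q, (∀ q r : Q, c.coeff (q * r * q⁻¹) = c.coeff r) →
        ∀ q : Q, single q 1 * c = c * single q 1 := by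
      intro c hc q
      ext r
      simp only [coeff_single_mul_apply, coeff_mul_single_apply, one_mul, mul_one]
      rw [← hc q (q⁻¹ * r)]
      congr 1
      group
    refine ⟨fun q r => ?_, fun q hq => ?_⟩
    · have h : single q 1 * (a * b) = (a * b) * single q 1 := by
        rw [← mul_assoc, hcen a ha q, mul_assoc, hcen b hb q, ← mul_assoc]
      have h1 := congrArg (fun c : MonoidAlgebra k Q => c.coeff (q * r)) h
      simp only [coeff_single_mul_apply, coeff_mul_single_apply, one_mul, mul_one,
        inv_mul_cancel_left] at h1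
      exact h1.symm
    · by_contra hne
      have hmem := support_coeff_mul_subset a b (Finsupp.mem_support_iff.2 hne)
      obtain ⟨u, hu, v, hv, rfl⟩ := Finset.mem_mul.1 hmem
      refine hq (N.mul_mem ?_ ?_)
      · by_contra h
        exact Finsupp.mem_support_iff.1 hu (ha' u h)
      · by_contra h
        exact Finsupp.mem_support_iff.1 hv (hb' v h)
  algebraMap_mem' := by
    classical
    intro r
    refine ⟨fun q s => ?_, fun q hq => ?_⟩
    · simp only [coe_algebraMap, Function.comp_apply, coeff_single, Finsupp.single_apply]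
      congr 1
      simp [eq_comm, eq_mul_inv_iff_mul_eq, mul_inv_eq_iff_eq_mul]
    · simp only [coe_algebraMap, Function.comp_apply, coeff_single, Finsupp.single_apply]
      rw [if_neg]
      rintro rfl
      exact hq N.one_mem

variable {k} {N : Subgroup Q}

theorem commute (c : classAlg k N) (f : MonoidAlgebra k Q) : Commute (c : MonoidAlgebra k Q) f := by
  induction f using MonoidAlgebra.induction_linear with
  | zero => exact Commute.zero_right _
  | add f g hf hg => exact hf.add_right hg
  | single q r =>
    show (c : MonoidAlgebra k Q) * single q r = single q r * (c : MonoidAlgebra k Q)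
    ext s
    simp only [coeff_single_mul_apply, coeff_mul_single_apply]
    rw [mul_comm, ← c.2.1 q (q⁻¹ * s)]
    congr 2
    group

noncomputable instance commRing : CommRing (classAlg k N) :=
  { (classAlg k N).toRing with
    mul_comm := fun a b => Subtype.ext (commute a b) }

/-- The classes inside `N`. -/
abbrev Cls (N : Subgroup Q) : Type _ := {c : ConjClasses Q // ∀ q ∈ c.carrier, q ∈ N}

variable (k) in
/-- The class sums form a basis. -/
noncomputable def classEquiv (N : Subgroup Q) [N.Normal] [Finite Q] :
    classAlg k N ≃ₗ[k] (Cls N → k) := by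
  classical
  exact
  { toFun := fun c K => Quotient.liftOn' K.1 (fun q => c.1.coeff q) fun a b hab => by
      obtain ⟨u, hu⟩ := isConj_iff.1 (hab : IsConj a b)
      rw [← hu, c.2.1 u a]
    map_add' := fun a b => funext fun K => by
      obtain ⟨K, hK⟩ := K
      obtain ⟨q, rfl⟩ := Quotient.exists_rep K
      rfl
    map_smul' := fun r a => funext fun K => by
      obtain ⟨K, hK⟩ := K
      obtain ⟨q, rfl⟩ := Quotient.exists_rep K
      rfl
    invFun := fun g => ⟨ofCoeff (Finsupp.equivFunOnFinite.symm fun q =>
        if h : ∀ u ∈ (ConjClasses.mk q).carrier, u ∈ N then g ⟨ConjClasses.mk q, h⟩ else 0), by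
      refine ⟨fun q r => ?_, fun q hq => ?_⟩
      · have h : ConjClasses.mk (q * r * q⁻¹) = ConjClasses.mk r :=
          ConjClasses.mk_eq_mk_iff_isConj.2 (isConj_iff.2 ⟨q⁻¹, by group⟩)
        simp only [coeff_ofCoeff, Finsupp.coe_equivFunOnFinite_symm]
        by_cases h' : ∀ u ∈ (ConjClasses.mk r).carrier, u ∈ N
        · rw [dif_pos h', dif_pos (by rw [h]; exact h')]
          exact congrArg g (Subtype.ext h)
        · rw [dif_neg h', dif_neg (by rw [h]; exact h')]
      · simp only [coeff_ofCoeff, Finsupp.coe_equivFunOnFinite_symm]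
        rw [dif_neg fun h => hq (h q ConjClasses.mem_carrier_mk)]⟩
    left_inv := fun c => by
      refine Subtype.ext (MonoidAlgebra.ext (Finsupp.ext fun q => ?_))
      simp only [coeff_ofCoeff, Finsupp.coe_equivFunOnFinite_symm]
      split_ifs with h
      · rfl
      · refine (c.2.2 q fun hq => h fun u hu => ?_).symm
        obtain ⟨w, hw⟩ := isConj_iff.1
          (ConjClasses.mk_eq_mk_iff_isConj.1 (ConjClasses.mem_carrier_iff_mk_eq.1 hu).symm)
        exact hw ▸ Subgroup.Normal.conj_mem inferInstance q hq w
    right_inv := fun g => funext fun ⟨K, hK⟩ => by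
      induction K using Quotient.inductionOn' with
      | _ q =>
        show (if h : ∀ u ∈ (ConjClasses.mk q).carrier, u ∈ N then g ⟨ConjClasses.mk q, h⟩ else 0) = _
        rw [dif_pos (show ∀ u ∈ (ConjClasses.mk q).carrier, u ∈ N from hK)]
        rfl }

theorem finite_classAlg (N : Subgroup Q) [N.Normal] [Finite Q] :
    Module.Finite k (classAlg k N) :=
  Module.Finite.equiv (classEquiv k N).symm

/-- A central element of the group algebra that is nilpotent vanishes. -/
theorem eq_zero_of_isNilpotent [Finite Q] (hQ : (Nat.card Q : k) ≠ 0) (c : classAlg k N)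
    (hc : IsNilpotent c) : c = 0 := by
  classical
  haveI : Fintype Q := Fintype.ofFinite Q
  refine Subtype.ext (MonoidAlgebra.ext (Finsupp.ext fun q => ?_))
  set f : MonoidAlgebra k Q := (c : MonoidAlgebra k Q) * single q⁻¹ 1 with hf
  have hcn : IsNilpotent (c : MonoidAlgebra k Q) := hc.map (classAlg k N).val
  have hfn : IsNilpotent f := (commute c _).isNilpotent_mul_right hcn
  have hLn : IsNilpotent (Algebra.lmul k (MonoidAlgebra k Q) f) := hfn.map _
  have htr := (LinearMap.isNilpotent_trace_of_isNilpotent hLn).eq_zero
  set b : Module.Basis Q k (MonoidAlgebra k Q) := MonoidAlgebra.basis Q k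
  rw [LinearMap.trace_eq_matrix_trace k b, Matrix.trace] at htr
  have hdiag : ∀ r : Q, Matrix.diag (LinearMap.toMatrix b b (Algebra.lmul k (MonoidAlgebra k Q) f)) r
      = (c : MonoidAlgebra k Q).coeff q := by
    intro r
    simp [Matrix.diag, LinearMap.toMatrix_apply, b, hf, MonoidAlgebra.basis]
  rw [Finset.sum_congr rfl fun r _ => hdiag r, Finset.sum_const, Finset.card_univ,
    ← Nat.card_eq_fintype_card, nsmul_eq_mul] at htr
  simpa using (mul_eq_zero.1 htr).resolve_left hQ

/-- The homomorphisms of the class algebra to the field. -/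
abbrev Homs (k : Type*) [Field k] (N : Subgroup Q) : Type _ := classAlg k N →ₐ[k] k

variable [IsAlgClosed k] [Finite Q] [N.Normal]

theorem finite_homs : Finite (Homs k N) := by
  haveI := finite_classAlg (k := k) N
  infer_instance

/-- Evaluation at all homomorphisms. -/
noncomputable def evalHom (N : Subgroup Q) : classAlg k N →ₗ[k] (Homs k N → k) where
  toFun c χ := χ c
  map_add' a b := funext fun χ => map_add χ a b
  map_smul' r a := funext fun χ => map_smul χ r a

theorem evalHom_injective (hQ : (Nat.card Q : k) ≠ 0) :
    Function.Injective (evalHom (k := k) N) := by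
  haveI := finite_classAlg (k := k) N
  haveI : IsArtinianRing (classAlg k N) := IsArtinianRing.of_finite k _
  rw [← LinearMap.ker_eq_bot, LinearMap.ker_eq_bot']
  intro c hc
  refine eq_zero_of_isNilpotent hQ c (mem_nilradical.1 ?_)
  rw [nilradical_eq_sInf]
  refine Submodule.mem_sInf.2 fun (J : Ideal (classAlg k N)) (hJ : J.IsPrime) => ?_
  haveI : J.IsMaximal := hJ.isMaximal'
  haveI : Field (classAlg k N ⧸ J) := Ideal.Quotient.field J
  haveI : Algebra.IsIntegral k (classAlg k N ⧸ J) := Algebra.IsIntegral.of_finite k _
  have hbij := IsAlgClosed.algebraMap_bijective_of_isIntegral (k := k) (K := classAlg k N ⧸ J)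
  let e := (AlgEquiv.ofBijective (Algebra.ofId k (classAlg k N ⧸ J)) hbij).symm
  let χ : Homs k N := e.toAlgHom.comp (Ideal.Quotient.mkₐ k J)
  have h0 : e (Ideal.Quotient.mk J c) = 0 := congrFun hc χ
  rw [map_eq_zero_iff _ e.injective] at h0
  exact Ideal.Quotient.eq_zero_iff_mem.1 h0

theorem finrank_classAlg : Module.finrank k (classAlg k N) = Nat.card (Cls N) := by
  haveI := Fintype.ofFinite (Cls N)
  rw [(classEquiv k N).finrank_eq, Module.finrank_pi, Nat.card_eq_fintype_card]

/-- Functions on classes are functions on homomorphisms. -/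
noncomputable def homEquiv (hQ : (Nat.card Q : k) ≠ 0) :
    (Cls N → k) ≃ₗ[k] (Homs k N → k) := by
  haveI := finite_classAlg (k := k) N
  haveI := finite_homs (k := k) (N := N)
  haveI := Fintype.ofFinite (Homs k N)
  refine (classEquiv k N).symm.trans (LinearEquiv.ofBijective (evalHom N) ?_)
  refine ⟨evalHom_injective hQ, ?_⟩
  have h1 : Module.finrank k (classAlg k N) = Module.finrank k (Homs k N → k) := by
    refine le_antisymm (LinearMap.finrank_le_finrank_of_injective (evalHom_injective hQ)) ?_
    rw [Module.finrank_pi]
    have hli := linearIndependent_algHom_toLinearMap k (classAlg k N) k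
    have := hli.fintype_card_le_finrank
    rwa [Module.finrank_linearMap_self] at this
  exact (LinearMap.injective_iff_surjective_of_finrank_eq_finrank h1).1 (evalHom_injective hQ)

theorem homEquiv_apply (hQ : (Nat.card Q : k) ≠ 0) (g : Cls N → k) (χ : Homs k N) :
    homEquiv hQ g χ = χ ((classEquiv k N).symm g) := rfl

/-- An automorphism of prime order fixes as many homomorphisms as classes. -/
theorem card_fixed_eq {p : ℕ} [Fact p.Prime] (hQ : (Nat.card Q : k) ≠ 0)
    (α : classAlg k N ≃ₐ[k] classAlg k N) (σ : Equiv.Perm (Cls N)) (hσ : σ ^ p = 1)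
    (hα : α ^ p = 1)
    (hασ : ∀ g : Cls N → k, (classEquiv k N).symm (fun K => g (σ K)) = α ((classEquiv k N).symm g)) :
    Nat.card {K : Cls N // σ K = K} = Nat.card {χ : Homs k N // χ.comp α.toAlgHom = χ} := by
  haveI := finite_homs (k := k) (N := N)
  let τ : Equiv.Perm (Homs k N) :=
    { toFun := fun χ => χ.comp α.toAlgHom
      invFun := fun χ => χ.comp α.symm.toAlgHom
      left_inv := fun χ => by ext c; simp
      right_inv := fun χ => by ext c; simp }
  have hτn : ∀ (i : ℕ) (χ : Homs k N), (τ ^ i) χ = χ.comp (α ^ i).toAlgHom := by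
    intro i
    induction i with
    | zero => intro χ; ext c; simp
    | succ i ih =>
      intro χ
      ext c
      rw [pow_succ', Equiv.Perm.mul_apply, ih, pow_succ]
      simp [τ, AlgEquiv.mul_apply]
  have hτ : τ ^ p = 1 := Equiv.ext fun χ => by
    rw [hτn, hα]; rfl
  refine PermCount.card_fixed_eq σ τ hσ hτ (homEquiv hQ) fun g χ => ?_
  rw [homEquiv_apply, homEquiv_apply, hασ]
  rfl

end CfsgLib.CaminaPair.ClassAlgebra
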