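import Cfsg.Agent.Char.ThompsonDegree
import Cfsg.Agent.Char.Central
import Cfsg.Agent.Char.Equivalence
import Cfsg.Agent.Blocks.Congr
import Mathlib.GroupTheory.PGroup

/-!
Camina pairs `(G, N)`: a prime dividing both `|N|` and `|G : N|` divides `|N : N'|`.

With `Y = P N` for a Sylow subgroup `P`, some irreducible character `ψ` of `Y` of degree prime to
`p` is nontrivial on `N`; its induced character vanishes outside `N`, and its value at a
`p`-element `g` is congruent to `ψ(1)` times the number of fixed cosets of `g`, a `p'`-number.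
-/

set_option autoImplicit false
set_option linter.style.haveILetI false
set_option linter.unusedSectionVars false

namespace CfsgLib.CaminaPair

open Subgroup

universe u

/-- If every element of `N` fixes no common vector, the character sums over the cosets vanish. -/
theorem sum_coset_eq_zero {Y : Type u} [Group Y] [Finite Y] {n : ℕ}
    (ρ : Representation ℂ Y (Fin n → ℂ)) [hρ : ρ.IsIrreducible] (K : Subgroup Y) [hK : K.Normal]
    [Fintype K] (hne : ∃ k ∈ K, ρ k ≠ 1) (y : Y) :
    ∑ k : K, ρ.character (y * (k : Y)) = 0 := by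
  classical
  set T : Module.End ℂ (Fin n → ℂ) := ∑ k : K, ρ (k : Y) with hT
  have hcomm : ∀ u : Y, ρ u * T = T * ρ u := fun u => by
    rw [hT, Finset.mul_sum, Finset.sum_mul]
    refine Fintype.sum_equiv ((MulAut.conjNormal u : MulAut K)).toEquiv _ _ fun k => ?_
    show ρ u * ρ (k : Y) = ρ ((MulAut.conjNormal u k : K) : Y) * ρ u
    rw [MulAut.conjNormal_apply, ← map_mul, ← map_mul]
    congr 1
    group
  have hfix : ∀ k ∈ K, ρ k * T = T := fun k hk => by
    rw [hT, Finset.mul_sum]
    refine Fintype.sum_equiv (Equiv.mulLeft (⟨k, hk⟩ : K)) _ _ fun j => ?_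
    rw [← map_mul]
    rfl
  have hT0 : T = 0 := by
    let S : Subrepresentation ρ := ⟨LinearMap.range T, fun u v hv => by
      obtain ⟨w, rfl⟩ := hv
      exact ⟨ρ u w, (LinearMap.congr_fun (hcomm u) w).symm⟩⟩
    rcases hρ.eq_bot_or_eq_top S with h0 | h0
    · have h1 := congrArg Subrepresentation.toSubmodule h0
      exact LinearMap.range_eq_bot.1 h1
    · exfalso
      have h1 : LinearMap.range T = ⊤ := congrArg Subrepresentation.toSubmodule h0
      obtain ⟨k, hk, hk1⟩ := hne
      refine hk1 (LinearMap.ext fun v => ?_)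
      obtain ⟨w, rfl⟩ := LinearMap.range_eq_top.1 h1 v
      exact LinearMap.congr_fun (hfix k hk) w
  have e : ∑ k : K, ρ.character (y * (k : Y)) = LinearMap.trace ℂ _ (ρ y * T) := by
    rw [hT, Finset.mul_sum, map_sum]
    refine Finset.sum_congr rfl fun k _ => ?_
    rw [← map_mul]
    rfl
  rw [e, hT0, mul_zero, map_zero]

variable {G : Type u} [Group G] [Finite G] {N : Subgroup G} [hN : N.Normal]

/-- A prime dividing `|N|` and `|G : N|` divides `|N : N'|`. -/
theorem dvd_index_commutator
    (hcam : ∀ g : G, g ∉ N → ∀ n ∈ N, ∃ x : G, x * g * x⁻¹ = g * n)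
    {p : ℕ} [Fact p.Prime] (hpi : p ∣ N.index) (hpN : p ∣ Nat.card N) :
    p ∣ (commutator ↥N).index := by
  classical
  by_contra hnd
  have hp : p.Prime := Fact.out
  haveI := Fintype.ofFinite G
  obtain ⟨P⟩ : Nonempty (Sylow p G) := inferInstance
  set Y := (P : Subgroup G) ⊔ N with hY
  haveI := Fintype.ofFinite Y
  have hNY : N ≤ Y := le_sup_right
  set K := N.subgroupOf Y with hKdef
  haveI : K.Normal := Subgroup.Normal.subgroupOf hN Y
  haveI := Fintype.ofFinite K
  -- an irreducible character of `Y` of degree prime to `p`, nontrivial on `N`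
  obtain ⟨ψ, m, hψ, hψ1, hm1, hmp⟩ : ∃ (ψ : Y → ℂ) (m : ℕ), Cfsg.IsIrrCharacter Y ψ ∧ ψ 1 = m ∧
      m ≠ 1 ∧ ¬ p ∣ m := by
    by_contra hno
    push Not at hno
    obtain ⟨M, hMn, hMc, k, hMk⟩ := CfsgLib.Char.ThompsonDegree.exists_complement
      (G := Y) (p := p) fun f hf m hm hm1 => hno f m hf hm hm1
    have hMK : M ≤ K := by
      intro x hx
      obtain ⟨a, ha, b, hb, hab⟩ := mem_sup_of_normal_right.1 x.2
      have hpow : ∃ j : ℕ, orderOf (QuotientGroup.mk' K x) ∣ p ^ j := by
        obtain ⟨j, hj⟩ := P.2 ⟨a, ha⟩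
        refine ⟨j, orderOf_dvd_of_pow_eq_one ?_⟩
        have hxa : QuotientGroup.mk' K x = QuotientGroup.mk' K ⟨a, mem_sup_left ha⟩ := by
          refine ((QuotientGroup.mk'_eq_mk' K).2 ⟨⟨b, hNY hb⟩, ?_, ?_⟩).symm
          · exact mem_subgroupOf.2 hb
          · exact Subtype.ext hab
        rw [hxa, ← map_pow]
        have : (⟨a, mem_sup_left ha⟩ : Y) ^ p ^ j = 1 :=
          Subtype.ext (by simpa using congrArg Subtype.val hj)
        rw [this, map_one]
      obtain ⟨j, hj⟩ := hpow
      have h1 : orderOf (QuotientGroup.mk' K x) ∣ Nat.card M :=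
        (orderOf_map_dvd _ x).trans (by
          rw [← orderOf_mk x hx]; exact orderOf_dvd_natCard _)
      have h2 := Nat.eq_one_of_dvd_coprimes (hMc.pow_right j) h1 hj
      exact (QuotientGroup.eq_one_iff x).1 (orderOf_eq_one_iff.1 h2)
    -- so `N / M` is a nontrivial `p`-group
    let M' : Subgroup N := M.comap (inclusion hNY)
    haveI : M'.Normal := hMn.comap _
    have hM'd : M'.index ∣ M.index := by
      rw [index_comap]
      exact M.relIndex_dvd_index_of_normal _
    obtain ⟨i, -, hi⟩ := (Nat.dvd_prime_pow hp).1 (hMk ▸ hM'd)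
    have hi0 : i ≠ 0 := by
      rintro rfl
      rw [pow_zero, index_eq_one] at hi
      have hKM : K ≤ M := by
        intro x hx
        have hx' : (⟨(x : G), mem_subgroupOf.1 hx⟩ : N) ∈ M' := hi ▸ mem_top _
        exact hx'
      have hcK : Nat.card K = Nat.card N := Nat.card_congr (subgroupOfEquivOfLe hNY).toEquiv
      have := (hpN.trans (hcK ▸ Subgroup.card_dvd_of_le hKM))
      exact hp.not_dvd_one (hMc ▸ Nat.dvd_gcd this (dvd_refl p))
    have hQ : IsPGroup p (N ⧸ M') := IsPGroup.of_card (n := i) (by rw [← index_eq_card, hi])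
    haveI := hQ.isNilpotent
    haveI : Nontrivial (N ⧸ M') := by
      rw [← Finite.one_lt_card_iff_nontrivial, ← index_eq_card, hi]
      exact Nat.one_lt_pow hi0 hp.one_lt
    refine hnd ?_
    have hc : commutator (N ⧸ M') ≠ ⊤ := by
      haveI : Group.IsSolvable (N ⧸ M') := inferInstance
      exact (Group.IsSolvable.commutator_lt_top_of_nontrivial (G := N ⧸ M')).ne
    have hle : commutator N ≤ (commutator (N ⧸ M')).comap (QuotientGroup.mk' M') := by
      rw [← map_le_iff_le_comap, commutator_def, map_commutator, commutator_def]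
      exact commutator_mono le_top le_top
    refine dvd_trans ?_ (index_dvd_of_le hle)
    rw [index_comap_of_surjective _ (QuotientGroup.mk'_surjective M')]
    obtain ⟨j, -, hj⟩ := (Nat.dvd_prime_pow hp).1
      (show (commutator (N ⧸ M')).index ∣ p ^ i by
        rw [← hi, index_eq_card M']; exact index_dvd_card _)
    rw [hj]
    refine dvd_pow_self p ?_
    rintro rfl
    rw [pow_zero, index_eq_one] at hj
    exact hc hj
  obtain ⟨d, ρ, hρ, rfl⟩ := hψ
  haveI := hρ
  have hKne : ∃ k ∈ K, ρ k ≠ 1 := by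
    by_contra hall
    push Not at hall
    -- then `ρ` is irreducible on the `p`-group `P`
    have hPY : (P : Subgroup G) ≤ Y := le_sup_left
    let τ : Representation ℂ (P : Subgroup G) (Fin d → ℂ) := ρ.comp (inclusion hPY)
    haveI : Nontrivial (Fin d → ℂ) :=
      Module.nontrivial_of_finrank_pos (R := ℂ) (CfsgLib.Char.finrank_pos_of_isIrreducible ρ)
    have hτ : τ.IsIrreducible := by
      refine CfsgLib.Char.isIrreducible_of_no_sub τ fun S => ?_
      let S' : Subrepresentation ρ := ⟨S.toSubmodule, fun u v hv => by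
        obtain ⟨a, ha, b, hb, hab⟩ := mem_sup_of_normal_right.1 u.2
        have hu : u = inclusion hPY ⟨a, ha⟩ * ⟨b, hNY hb⟩ := Subtype.ext hab.symm
        rw [hu, map_mul, hall ⟨b, hNY hb⟩ (mem_subgroupOf.2 hb), mul_one]
        exact S.apply_mem_toSubmodule ⟨a, ha⟩ hv⟩
      rcases hρ.eq_bot_or_eq_top S' with h0 | h0
      · exact Or.inl (Subrepresentation.toSubmodule_injective
          (congrArg Subrepresentation.toSubmodule h0 :))
      · exact Or.inr (Subrepresentation.toSubmodule_injective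
          (congrArg Subrepresentation.toSubmodule h0 :))
    have hd : τ.character 1 = (m : ℂ) := by
      rw [← hψ1, ρ.char_one, τ.char_one]
    obtain ⟨e, he⟩ := IsPGroup.iff_card.1 P.2
    have hmd := CfsgLib.Char.IsIrrCharacter.degree_dvd_card (G := (P : Subgroup G))
      ⟨d, τ, hτ, rfl⟩ hd
    rw [he] at hmd
    obtain ⟨i, -, hi⟩ := (Nat.dvd_prime_pow hp).1 hmd
    rcases Nat.eq_zero_or_pos i with rfl | hi0
    · exact hm1 (by simpa using hi)
    · exact hmp (hi ▸ dvd_pow_self p hi0.ne')
  set ψ : Y → ℂ := ρ.character with hψdef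
  have hψc : Cfsg.IsCharacter Y ψ := ⟨d, ρ, rfl⟩
  set E := Cfsg.extendByZero Y ψ with hE
  have hEcoset : ∀ a : G, ∑ k : K, E (a * ((k : Y) : G)) = 0 := by
    intro a
    by_cases ha : a ∈ Y
    · rw [← sum_coset_eq_zero ρ K hKne ⟨a, ha⟩]
      refine Finset.sum_congr rfl fun k _ => ?_
      exact CfsgLib.Char.extendByZero_of_mem ψ (Y.mul_mem ha (k : Y).2)
    · refine Finset.sum_eq_zero fun k _ => CfsgLib.Char.extendByZero_of_not_mem ψ fun h => ha ?_
      simpa using Y.mul_mem h (Y.inv_mem (k : Y).2)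
  -- the induced function vanishes outside `N`
  have hvan : ∀ g : G, g ∉ N → ∑ x : G, E (x⁻¹ * g * x) = 0 := by
    intro g hg
    have hsh : ∀ k : K, ∑ x : G, E (x⁻¹ * (g * ((k : Y) : G)) * x) = ∑ x : G, E (x⁻¹ * g * x) := by
      intro k
      obtain ⟨c, hc⟩ := hcam g hg _ (mem_subgroupOf.1 k.2)
      refine Fintype.sum_equiv (Equiv.mulLeft c⁻¹) _ _ fun x => ?_
      rw [Equiv.coe_mulLeft, ← hc]
      congr 1
      group
    have htot : ∑ k : K, ∑ x : G, E (x⁻¹ * (g * ((k : Y) : G)) * x) = 0 := by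
      rw [Finset.sum_comm]
      refine Finset.sum_eq_zero fun x _ => ?_
      have hx : ∀ k : K, x⁻¹ * ((k : Y) : G) * x ∈ N := fun k => by
        simpa using hN.conj_mem _ (mem_subgroupOf.1 k.2) x⁻¹
      rw [← hEcoset (x⁻¹ * g * x)]
      let e : K → K := fun k => ⟨⟨x⁻¹ * ((k : Y) : G) * x, hNY (hx k)⟩, mem_subgroupOf.2 (hx k)⟩
      have hbij : Function.Bijective e := by
        rw [← Finite.injective_iff_bijective]
        intro k l hkl
        have := congrArg (fun z : K => ((z : Y) : G)) hkl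
        simp only [e, mul_left_inj, mul_right_inj] at this
        exact Subtype.ext (Subtype.ext this)
      refine Fintype.sum_equiv (Equiv.ofBijective e hbij) _ _ fun k => ?_
      show E (x⁻¹ * (g * ((k : Y) : G)) * x) = E (x⁻¹ * g * x * (x⁻¹ * ((k : Y) : G) * x))
      congr 1
      group
    rw [Finset.sum_congr rfl fun k _ => hsh k, Finset.sum_const, Finset.card_univ, nsmul_eq_mul,
      mul_eq_zero] at htot
    exact htot.resolve_left (Nat.cast_ne_zero.2 Fintype.card_ne_zero)
  -- a `p`-element outside `N`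
  obtain ⟨g, hgP, hgN⟩ : ∃ g ∈ (P : Subgroup G), g ∉ N := by
    by_contra hall
    push Not at hall
    exact P.not_dvd_index (hpi.trans (index_dvd_of_le hall))
  have hval := hvan g hgN
  haveI := Fintype.ofFinite (G ⧸ Y)
  have hinv : ∀ (a : G) (y : Y), E ((y : G)⁻¹ * a * (y : G)) = E a := by
    intro a y
    by_cases ha : a ∈ Y
    · rw [hE, CfsgLib.Char.extendByZero_of_mem ψ (Y.mul_mem (Y.mul_mem (Y.inv_mem y.2) ha) y.2),
        CfsgLib.Char.extendByZero_of_mem ψ ha]
      have := ρ.char_conj ⟨a, ha⟩ y⁻¹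
      rw [hψdef, ← this]
      congr 1
      exact Subtype.ext (by simp)
    · rw [hE, CfsgLib.Char.extendByZero_of_not_mem ψ ha,
        CfsgLib.Char.extendByZero_of_not_mem ψ]
      intro h
      refine ha ?_
      have := Y.mul_mem (Y.mul_mem y.2 h) (Y.inv_mem y.2)
      simpa [mul_assoc] using this
  have hsum : ∑ q : G ⧸ Y, E (q.out⁻¹ * g * q.out) = 0 := by
    rw [← Equiv.sum_comp (Subgroup.groupEquivQuotientProdSubgroup (s := Y)).symm] at hval
    rw [Fintype.sum_prod_type] at hval
    have hrow : ∀ q : G ⧸ Y, ∑ y : Y,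
        E (((Subgroup.groupEquivQuotientProdSubgroup (s := Y)).symm (q, y))⁻¹ * g *
          (Subgroup.groupEquivQuotientProdSubgroup (s := Y)).symm (q, y)) =
        (Fintype.card Y : ℂ) * E (q.out⁻¹ * g * q.out) := by
      intro q
      rw [← nsmul_eq_mul, ← Finset.card_univ, ← Finset.sum_const]
      refine Finset.sum_congr rfl fun y _ => ?_
      have h0 := (Subgroup.groupEquivQuotientProdSubgroup (s := Y)).apply_symm_apply (q, y)
      set x := (Subgroup.groupEquivQuotientProdSubgroup (s := Y)).symm (q, y)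
      have hq : (QuotientGroup.mk x : G ⧸ Y) = q := congrArg Prod.fst h0
      obtain ⟨z, hz⟩ : ∃ z : Y, x = q.out * z := by
        refine ⟨⟨q.out⁻¹ * x, QuotientGroup.eq.1 ?_⟩, (mul_inv_cancel_left _ _).symm⟩
        rw [QuotientGroup.out_eq']
        exact hq.symm
      rw [hz, ← hinv (q.out⁻¹ * g * q.out) z]
      congr 1
      group
    rw [Finset.sum_congr rfl fun q _ => hrow q, ← Finset.mul_sum, mul_eq_zero] at hval
    exact hval.resolve_left (Nat.cast_ne_zero.2 Fintype.card_ne_zero)
  -- reduce modulo `p`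
  obtain ⟨I, hI⟩ := CfsgLib.Block.exists_isPModular hp
  haveI : I.IsPrime := hI.2.1.isPrime
  set F := Finset.univ.filter fun q : G ⧸ Y => q.out⁻¹ * g * q.out ∈ Y with hF
  obtain ⟨j, hj⟩ := P.2 ⟨g, hgP⟩
  have hgj : g ^ p ^ j = 1 := by simpa using congrArg Subtype.val hj
  have hterm : ∀ q ∈ F, Cfsg.MemLocalIdeal I (E (q.out⁻¹ * g * q.out) - (m : ℂ)) := by
    intro q hq
    have hqY := (Finset.mem_filter.1 hq).2
    rw [hE, CfsgLib.Char.extendByZero_of_mem ψ hqY, ← hψ1]
    have hpow : (⟨_, hqY⟩ : Y) ^ p ^ j = 1 := Subtype.ext (by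
      rw [SubmonoidClass.coe_pow, OneMemClass.coe_one]
      have h2 : (q.out⁻¹ * g * q.out) ^ p ^ j = q.out⁻¹ * g ^ p ^ j * q.out := by
        simpa using conj_pow (i := p ^ j) (a := q.out⁻¹) (b := g)
      show (q.out⁻¹ * g * q.out) ^ p ^ j = 1
      rw [h2, hgj, mul_one, inv_mul_cancel])
    have := CfsgLib.Block.char_cong_pPart hI hψc (Commute.one_right (⟨_, hqY⟩ : Y)) hpow
      (m := 1) hp.not_dvd_one (one_pow 1)
    simpa [hψdef] using this
  have hmem : Cfsg.MemLocalIdeal I ((F.card * m : ℕ) : ℂ) := by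
    have h1 := CfsgLib.Block.memLocalIdeal_sum hterm
    rw [Finset.sum_sub_distrib, Finset.sum_const, nsmul_eq_mul] at h1
    rw [hF, Finset.sum_filter_of_ne fun q _ hne => by
      by_contra hnY
      exact hne (CfsgLib.Char.extendByZero_of_not_mem ψ hnY)] at h1
    rw [hsum, zero_sub] at h1
    have h2 := CfsgLib.Block.memLocalIdeal_neg h1
    rw [neg_neg] at h2
    rw [Nat.cast_mul]
    exact h2
  rcases hp.dvd_mul.1 ((CfsgLib.Block.memLocalIdeal_natCast_iff hI).1 hmem) with h | h
  · -- the number of fixed cosets is prime to `p`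
    have hzp : IsPGroup p (zpowers g) := P.2.to_le (zpowers_le.2 hgP)
    have hmod := hzp.card_modEq_card_fixedPoints (G ⧸ Y)
    have hcard : Nat.card (MulAction.fixedPoints (zpowers g) (G ⧸ Y)) = F.card := by
      rw [Nat.card_coe_set_eq, ← Set.ncard_coe_finset]
      congr 1
      ext q
      have key : g • q = q ↔ q.out⁻¹ * g * q.out ∈ Y := by
        conv_lhs => rw [← QuotientGroup.out_eq' q]
        rw [MulAction.Quotient.smul_mk, QuotientGroup.eq, smul_eq_mul]
        rw [← inv_mem_iff]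
        simp [mul_assoc]
      rw [MulAction.mem_fixedPoints, Finset.mem_coe, Finset.mem_filter]
      refine ⟨fun hq => ⟨Finset.mem_univ _, key.1 (hq ⟨g, mem_zpowers g⟩)⟩, fun hq z => ?_⟩
      have hst : g ∈ MulAction.stabilizer G q := key.2 hq.2
      exact zpowers_le.2 hst z.2
    rw [hcard, ← index_eq_card] at hmod
    have h3 : p ∣ Y.index := Nat.modEq_zero_iff_dvd.1
      (hmod.trans (Nat.modEq_zero_iff_dvd.2 h))
    exact P.not_dvd_index (h3.trans (index_dvd_of_le le_sup_left))
  · exact hmp h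

end CfsgLib.CaminaPair
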