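import Cfsg.Agent.InvChar.UniqueInvolution
import Cfsg.Agent.Solvable.PGroupBasic
import Mathlib

/-!
An irreducible module of a normal subgroup `Q` of a `p`-group, whose class of central functions is
invariant under a subgroup that is not cyclic modulo `Q`, when every element outside `Q` has `p`th
power without fixed vectors: `p = 2` and `Q` acts by signs.
-/

set_option autoImplicit false
set_option linter.style.haveILetI false
set_option linter.unusedSectionVars false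

namespace CfsgLib.CaminaPair.Descent

variable {P : Type*} [Group P] [Fintype P] [DecidableEq P] {k : Type*} [Field k]
  {V : Type*} [AddCommGroup V] [Module k V] {ρ : Representation k P V}

variable (ρ) in
/-- The operator of a function on the group. -/
noncomputable def op (f : P → k) : Module.End k V := ∑ x : P, f x • ρ x

theorem op_apply (f : P → k) (v : V) : op ρ f v = ∑ x : P, f x • ρ x v := by
  simp [op, LinearMap.sum_apply]

theorem op_single (d : P) (v : V) : op ρ (Pi.single d 1) v = ρ d v := by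
  classical
  rw [op_apply, Finset.sum_eq_single d]
  · simp
  · intro b _ hb; simp [Pi.single_eq_of_ne hb]
  · intro h; exact absurd (Finset.mem_univ d) h

theorem rho_mul (a b : P) (v : V) : ρ (a * b) v = ρ a (ρ b v) := by rw [map_mul]; rfl

theorem rho_one (v : V) : ρ (1 : P) v = v := by rw [map_one]; rfl

theorem rho_inv_self (a : P) (v : V) : ρ a (ρ a⁻¹ v) = v := by
  rw [← rho_mul, mul_inv_cancel, rho_one]

theorem inv_rho_self (a : P) (v : V) : ρ a⁻¹ (ρ a v) = v := by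
  rw [← rho_mul, inv_mul_cancel, rho_one]

theorem rho_eq_zero {a : P} {v : V} (h : ρ a v = 0) : v = 0 := by
  have := congrArg (ρ a⁻¹) h
  rwa [inv_rho_self, map_zero] at this

theorem op_conj (f : P → k) (e : P) (v : V) :
    op ρ (fun x => f (e⁻¹ * x * e)) v = ρ e (op ρ f (ρ e⁻¹ v)) := by
  rw [op_apply, op_apply, map_sum]
  refine Fintype.sum_equiv (MulAut.conj e⁻¹).toEquiv _ _ fun x => ?_
  rw [map_smul, MulEquiv.toEquiv_eq_coe, EquivLike.coe_coe, MulAut.conj_apply, inv_inv, ← rho_mul,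
    ← rho_mul]
  congr 2
  group

/-- A function supported on `D` and invariant under conjugation by `D`. -/
def IsCls (D : Subgroup P) (f : P → k) : Prop :=
  (∀ x, x ∉ D → f x = 0) ∧ ∀ d ∈ D, ∀ x, f (d * x * d⁻¹) = f x

theorem IsCls.commute {D : Subgroup P} {f : P → k} (hf : IsCls D f) {d : P} (hd : d ∈ D) (v : V) :
    op ρ f (ρ d v) = ρ d (op ρ f v) := by
  have h : (fun x => f (d⁻¹ * x * d)) = f := funext fun x => by
    simpa using hf.2 d⁻¹ (D.inv_mem hd) x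
  have h1 := op_conj (ρ := ρ) f d (ρ d v)
  rw [h, inv_rho_self] at h1
  exact h1

/-- The average of the conjugates. -/
noncomputable def avg (D : Subgroup P) (G : P → k) : P → k :=
  fun x => ∑ᶠ e : D, G ((e : P)⁻¹ * x * e)

theorem avg_apply (D : Subgroup P) [Fintype D] (G : P → k) (x : P) :
    avg D G x = ∑ e : D, G ((e : P)⁻¹ * x * e) := finsum_eq_sum_of_fintype _

theorem op_avg (D : Subgroup P) [Fintype D] (G : P → k) (v : V) :
    op ρ (avg D G) v = ∑ e : D, ρ e (op ρ G (ρ (e : P)⁻¹ v)) := by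
  simp only [← op_conj]
  simp only [op_apply, avg_apply, Finset.sum_smul]
  exact Finset.sum_comm

theorem isCls_avg {D : Subgroup P} {G : P → k} (hG : ∀ x, x ∉ D → G x = 0) : IsCls D (avg D G) := by
  haveI : Fintype D := Fintype.ofFinite D
  refine ⟨fun x hx => ?_, fun d hd x => ?_⟩
  · rw [avg_apply]
    refine Finset.sum_eq_zero fun e _ => hG _ fun h => hx ?_
    have := D.mul_mem (D.mul_mem e.2 h) (D.inv_mem e.2)
    simpa [mul_assoc] using this
  · rw [avg_apply, avg_apply]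
    refine Fintype.sum_equiv (Equiv.mulLeft (⟨d, hd⟩⁻¹ : D)) _ _ fun e => congrArg G ?_
    simp [mul_assoc]

/-- A submodule of `V` that is irreducible for `D`. -/
structure IsIrr (ρ : Representation k P V) (D : Subgroup P) (W : Submodule k V) : Prop where
  ne_bot : W ≠ ⊥
  invariant : ∀ d ∈ D, ∀ w ∈ W, ρ d w ∈ W
  minimal : ∀ U : Submodule k V, U ≤ W → U ≠ ⊥ → (∀ d ∈ D, ∀ u ∈ U, ρ d u ∈ U) → U = W

theorem IsIrr.op_mem {D : Subgroup P} {W : Submodule k V} (hW : IsIrr ρ D W) {f : P → k}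
    (hf : ∀ x, x ∉ D → f x = 0) {w : V} (hw : w ∈ W) : op ρ f w ∈ W := by
  rw [op_apply]
  refine Submodule.sum_mem _ fun x _ => ?_
  by_cases hx : x ∈ D
  · exact W.smul_mem _ (hW.invariant x hx w hw)
  · rw [hf x hx, zero_smul]; exact W.zero_mem

theorem IsIrr.exists_ne {D : Subgroup P} {W : Submodule k V} (hW : IsIrr ρ D W) :
    ∃ w ∈ W, w ≠ 0 :=
  Submodule.exists_mem_ne_zero_of_ne_bot hW.ne_bot

/-- Class functions act on an irreducible submodule as scalars. -/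
theorem IsIrr.exists_scalar [IsAlgClosed k] [FiniteDimensional k V] {D : Subgroup P}
    {W : Submodule k V} (hW : IsIrr ρ D W) {f : P → k} (hf : IsCls D f) :
    ∃ a : k, ∀ w ∈ W, op ρ f w = a • w := by
  haveI : Nontrivial W := Submodule.nontrivial_iff_ne_bot.2 hW.ne_bot
  obtain ⟨a, ha⟩ := Module.End.exists_eigenvalue
    ((op ρ f).restrict (p := W) (q := W) fun w hw => hW.op_mem hf.1 hw)
  obtain ⟨w0, hw0⟩ := ha.exists_hasEigenvector
  let U : Submodule k V := W ⊓ LinearMap.ker (op ρ f - a • 1)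
  have hU : U = W := by
    refine hW.minimal U inf_le_left ?_ ?_
    · intro hbot
      refine hw0.2 (Subtype.ext ?_)
      have : (w0 : V) ∈ U := ⟨w0.2, by
        have h := congrArg Subtype.val hw0.apply_eq_smul
        simp only [LinearMap.coe_restrict_apply, Submodule.coe_smul] at h
        simp [h]⟩
      rw [hbot] at this
      exact (Submodule.mem_bot k).1 this
    · rintro d hd u ⟨huW, hu⟩
      refine ⟨hW.invariant d hd u huW, ?_⟩
      have hu' : op ρ f u = a • u := by simpa [sub_eq_zero] using hu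
      simp [hf.commute hd, hu']
  refine ⟨a, fun w hw => ?_⟩
  rw [← hU] at hw
  simpa [sub_eq_zero] using hw.2

/-- The scalars of class functions of `D` on `W` are invariant under `H`. -/
def Inv (ρ : Representation k P V) (H D : Subgroup P) (W : Submodule k V) : Prop :=
  ∀ f : P → k, IsCls D f → ∀ a : k, (∀ w ∈ W, op ρ f w = a • w) →
    ∀ h ∈ H, ∀ w ∈ W, op ρ f (ρ h w) = a • ρ h w

variable {Q : Subgroup P} [Q.Normal]

theorem conj_mem_inf {H : Subgroup P} {h d : P} (hh : h ∈ H) (hd : d ∈ H ⊓ Q) :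
    h * d * h⁻¹ ∈ H ⊓ Q :=
  ⟨H.mul_mem (H.mul_mem hh hd.1) (H.inv_mem hh), Subgroup.Normal.conj_mem inferInstance _ hd.2 h⟩

theorem conj_mem_inf' {H : Subgroup P} {h d : P} (hh : h ∈ H) (hd : d ∈ H ⊓ Q) :
    h⁻¹ * d * h ∈ H ⊓ Q := by
  simpa only [inv_inv] using conj_mem_inf (Q := Q) (H.inv_mem hh) hd

/-- A scalar is not changed by conjugation. -/
theorem scalar_inv {H : Subgroup P} {W : Submodule k V} (hW : IsIrr ρ (H ⊓ Q) W)
    (hinv : Inv ρ H (H ⊓ Q) W) (hP : (Nat.card P : k) ≠ 0) {d h : P} (hd : d ∈ H ⊓ Q) (hh : h ∈ H)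
    {a b : k} (ha : ∀ w ∈ W, ρ d w = a • w) (hb : ∀ w ∈ W, ρ (h⁻¹ * d * h) w = b • w) : a = b := by
  set D := H ⊓ Q
  haveI : Fintype D := Fintype.ofFinite D
  have hD : (Fintype.card D : k) ≠ 0 := by
    intro h0
    obtain ⟨r, hr⟩ := Subgroup.card_subgroup_dvd_card D
    apply hP
    rw [hr, Nat.cast_mul, Nat.card_eq_fintype_card (α := D), h0, zero_mul]
  have hcls : IsCls D (avg D (Pi.single d (1 : k))) := isCls_avg fun x hx => by
    rw [Pi.single_eq_of_ne]; rintro rfl; exact hx hd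
  obtain ⟨w, hw, hw0⟩ := hW.exists_ne
  have h1 : ∀ u ∈ W, op ρ (avg D (Pi.single d (1 : k))) u = ((Fintype.card D : k) * a) • u := by
    intro u hu
    rw [op_avg]
    have : ∀ e : D, ρ e (op ρ (Pi.single d (1 : k)) (ρ (e : P)⁻¹ u)) = a • u := fun e => by
      rw [op_single, ha _ (hW.invariant _ (D.inv_mem e.2) u hu), map_smul, rho_inv_self]
    rw [Finset.sum_congr rfl fun e _ => this e, Finset.sum_const, Finset.card_univ,
      ← Nat.cast_smul_eq_nsmul k, smul_smul]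
  have h2 := hinv _ hcls _ h1 h hh w hw
  have h3 : ∀ e : D, ρ e (op ρ (Pi.single d (1 : k)) (ρ (e : P)⁻¹ (ρ h w))) = b • ρ h w := by
    intro e
    have he' : h⁻¹ * (e : P)⁻¹ * h ∈ D := conj_mem_inf' hh (D.inv_mem e.2)
    rw [op_single]
    have e1 : ρ (e : P)⁻¹ (ρ h w) = ρ h (ρ (h⁻¹ * (e : P)⁻¹ * h) w) := by
      rw [← rho_mul, ← rho_mul]; congr 2; group
    rw [e1, ← rho_mul d h, show d * h = h * (h⁻¹ * d * h) by group, rho_mul h,
      hb _ (hW.invariant _ he' w hw), map_smul, map_smul, ← e1, rho_inv_self]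
  rw [op_avg, Finset.sum_congr rfl fun e _ => h3 e, Finset.sum_const, Finset.card_univ,
    ← Nat.cast_smul_eq_nsmul k, smul_smul] at h2
  have hne : ρ h w ≠ 0 := fun h0 => hw0 (rho_eq_zero h0)
  exact (mul_left_cancel₀ hD (smul_left_injective k hne h2)).symm

variable {p : ℕ} [hp : Fact p.Prime]

/-- The case that `D` acts by scalars. -/
theorem terminal (hPp : IsPGroup p P) (hF : ∀ h : P, h ∉ Q → ∀ v : V, ρ (h ^ p) v = v → v = 0)
    (hP : (Nat.card P : k) ≠ 0) {H : Subgroup P} (hnc : ∀ t ∈ H, ¬ H ≤ Q ⊔ Subgroup.zpowers t)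
    {W : Submodule k V} (hW : IsIrr ρ (H ⊓ Q) W) (hinv : Inv ρ H (H ⊓ Q) W)
    (hsc : ∀ d ∈ H ⊓ Q, ∃ c : k, ∀ w ∈ W, ρ d w = c • w) :
    p = 2 ∧ ∀ d ∈ H ⊓ Q, ∃ ε : k, ε * ε = 1 ∧ ∀ w ∈ W, ρ d w = ε • w := by
  set D := H ⊓ Q with hDdef
  obtain ⟨v, hv, hv0⟩ := hW.exists_ne
  choose! c hc using hsc
  have hconj : ∀ d ∈ D, ∀ h ∈ H, c (h⁻¹ * d * h) = c d := fun d hd h hh =>
    (scalar_inv hW hinv hP hd hh (hc d hd)
      (hc _ (conj_mem_inf' hh hd))).symm
  have hcmul : ∀ a ∈ D, ∀ b ∈ D, c (a * b) = c a * c b := by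
    intro a ha b hb
    refine smul_left_injective k hv0 ?_
    show c (a * b) • v = (c a * c b) • v
    rw [← hc _ (D.mul_mem ha hb) v hv, rho_mul, hc b hb v hv, map_smul, hc a ha v hv, smul_smul,
      mul_comm]
  have hc1 : c 1 = 1 := by
    refine smul_left_injective k hv0 ?_
    show c 1 • v = (1 : k) • v
    rw [← hc _ D.one_mem v hv, rho_one, one_smul]
  let E : Subgroup H :=
    { carrier := {h | (h : P) ∈ D ∧ c h = 1}
      one_mem' := ⟨D.one_mem, hc1⟩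
      mul_mem' := fun {a b} ha hb => ⟨D.mul_mem ha.1 hb.1, by
        push_cast; rw [hcmul _ ha.1 _ hb.1, ha.2, hb.2, one_mul]⟩
      inv_mem' := fun {a} ha => ⟨D.inv_mem ha.1, by
        have h1 := hcmul _ (D.inv_mem ha.1) _ ha.1
        rw [inv_mul_cancel, hc1, ha.2, mul_one] at h1
        exact h1.symm⟩ }
  haveI hEn : E.Normal := ⟨fun a ha g => ⟨by
    push_cast; exact conj_mem_inf g.2 ha.1, by
    push_cast
    have := hconj _ ha.1 _ (H.inv_mem g.2)
    rw [inv_inv] at this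
    rw [this, ha.2]⟩⟩
  -- an element of order `p` modulo `E` lies in `D`
  have hmemD : ∀ x : H, (x : H ⧸ E) ^ p = 1 → (x : P) ∈ D := by
    intro x hx
    rw [← QuotientGroup.mk_pow, QuotientGroup.eq_one_iff] at hx
    obtain ⟨hxD, hxc⟩ := hx
    push_cast at hxD hxc
    refine ⟨x.2, by_contra fun hxQ => hv0 (hF x hxQ v ?_)⟩
    rw [hc _ hxD v hv, hxc, one_smul]
  have hcpow : ∀ a ∈ D, ∀ i : ℕ, c (a ^ i) = c a ^ i := by
    intro a ha i
    induction i with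
    | zero => simpa using hc1
    | succ i ih => rw [pow_succ, hcmul _ (D.pow_mem ha i) _ ha, ih, pow_succ]
  have hu : ∀ x y : H ⧸ E, orderOf x = p → orderOf y = p → y ∈ Subgroup.zpowers x := by
    intro x y hx hy
    obtain ⟨a, rfl⟩ := QuotientGroup.mk_surjective x
    obtain ⟨b, rfl⟩ := QuotientGroup.mk_surjective y
    have hxp : (a : H ⧸ E) ^ p = 1 := hx ▸ pow_orderOf_eq_one _
    have hyp : (b : H ⧸ E) ^ p = 1 := hy ▸ pow_orderOf_eq_one _
    have ha := hmemD a hxp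
    have hb := hmemD b hyp
    rw [← QuotientGroup.mk_pow, QuotientGroup.eq_one_iff] at hxp hyp
    have ha1 : c a ^ p = 1 := by rw [← hcpow _ ha]; exact_mod_cast hxp.2
    have hb1 : c b ^ p = 1 := by rw [← hcpow _ hb]; exact_mod_cast hyp.2
    have hane : c a ≠ 1 := fun h => hp.out.ne_one (by
      rw [← hx, orderOf_eq_one_iff, QuotientGroup.eq_one_iff]; exact ⟨ha, h⟩)
    have hprim : IsPrimitiveRoot (c a) p :=
      IsPrimitiveRoot.iff_orderOf.2 (orderOf_eq_prime ha1 hane)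
    haveI : NeZero p := ⟨hp.out.ne_zero⟩
    obtain ⟨i, -, hi⟩ := hprim.eq_pow_of_pow_eq_one hb1
    refine ⟨(i : ℤ), ?_⟩
    show (a : H ⧸ E) ^ (i : ℤ) = b
    rw [zpow_natCast, ← QuotientGroup.mk_pow, QuotientGroup.eq]
    have hmem : ((a : P) ^ i)⁻¹ * b ∈ D := D.mul_mem (D.inv_mem (D.pow_mem ha i)) hb
    refine ⟨by push_cast; exact hmem, ?_⟩
    push_cast
    have h1 := hcmul _ (D.pow_mem ha i) _ hmem
    rw [mul_inv_cancel_left, hcpow _ ha, hi] at h1
    exact mul_left_cancel₀ (pow_ne_zero _ (IsPrimitiveRoot.ne_zero hprim hp.out.ne_zero)) (by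
      rw [mul_one, hi]; exact h1.symm)
  rcases CfsgLib.UniqueInvol.cyclic_or_quaternion ((hPp.to_subgroup H).to_quotient E) hu with
    hcyc | ⟨rfl, n, hn, ⟨e⟩⟩
  · exfalso
    obtain ⟨g, hg⟩ := hcyc.exists_generator
    obtain ⟨t, rfl⟩ := QuotientGroup.mk_surjective g
    refine hnc t t.2 fun h hh => ?_
    obtain ⟨i, hi⟩ := hg ((⟨h, hh⟩ : H) : H ⧸ E)
    have hi' : (((t ^ i : H)) : H ⧸ E) = ((⟨h, hh⟩ : H) : H ⧸ E) := by
      rw [QuotientGroup.mk_zpow]; exact hi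
    obtain ⟨hq, -⟩ := QuotientGroup.eq.1 hi'
    push_cast at hq
    have : (t : P) ^ i * (((t : P) ^ i)⁻¹ * h) ∈ Q ⊔ Subgroup.zpowers (t : P) :=
      Subgroup.mul_mem _ (Subgroup.mem_sup_right ⟨i, rfl⟩) (Subgroup.mem_sup_left hq.2)
    rwa [mul_inv_cancel_left] at this
  · refine ⟨rfl, fun d hd => ⟨c d, ?_, hc d hd⟩⟩
    set x : H ⧸ E := ((⟨d, hd.1⟩ : H) : H ⧸ E)
    have hcen : ∀ g : H ⧸ E, g * x = x * g := by
      intro g
      obtain ⟨h, rfl⟩ := QuotientGroup.mk_surjective g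
      show ((h * ⟨d, hd.1⟩ : H) : H ⧸ E) = ((⟨d, hd.1⟩ * h : H) : H ⧸ E)
      rw [QuotientGroup.eq]
      have hconjd : (h : P)⁻¹ * d * h ∈ D := conj_mem_inf' h.2 hd
      have e1 : ((h * ⟨d, hd.1⟩)⁻¹ * (⟨d, hd.1⟩ * h) : H) =
          (⟨d⁻¹ * ((h : P)⁻¹ * d * h), H.mul_mem (H.inv_mem hd.1) hconjd.1⟩ : H) :=
        Subtype.ext (by push_cast; group)
      rw [e1]
      refine ⟨D.mul_mem (D.inv_mem hd) hconjd, ?_⟩
      show c (d⁻¹ * ((h : P)⁻¹ * d * h)) = 1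
      rw [hcmul _ (D.inv_mem hd) _ hconjd, hconj d hd h h.2, ← hcmul _ (D.inv_mem hd) _ hd,
        inv_mul_cancel, hc1]
    have hm : 2 ≤ 2 ^ n := Nat.le_self_pow (by omega) 2
    have hsq : e x * e x = 1 := by
      have h1 : ∀ g, g * e x = e x * g := fun g => by
        obtain ⟨g, rfl⟩ := e.surjective g
        rw [← map_mul, ← map_mul, hcen]
      rcases hex : e x with i | i
      · have h2 := h1 (QuaternionGroup.xa 0)
        rw [hex] at h2
        simp only [QuaternionGroup.a_mul_xa, QuaternionGroup.xa_mul_a] at h2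
        injection h2 with h2
        rw [QuaternionGroup.a_mul_a, QuaternionGroup.one_def]
        congr 1
        linear_combination h2
      · have h2 := h1 (QuaternionGroup.a 1)
        rw [hex] at h2
        simp only [QuaternionGroup.a_mul_xa, QuaternionGroup.xa_mul_a] at h2
        injection h2 with h2
        have h3 : ((2 : ℕ) : ZMod (2 * 2 ^ n)) = 0 := by push_cast; linear_combination -h2
        have h4 := Nat.le_of_dvd (by norm_num) ((ZMod.natCast_eq_zero_iff _ _).1 h3)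
        omega
    rw [← map_mul, MulEquiv.map_eq_one_iff] at hsq
    have h5 : (((⟨d, hd.1⟩ * ⟨d, hd.1⟩ : H)) : H ⧸ E) = 1 := hsq
    obtain ⟨h6, h7⟩ := (QuotientGroup.eq_one_iff _).1 h5
    push_cast at h7
    rwa [hcmul _ hd _ hd] at h7

/-- The descent. -/
theorem descent [IsAlgClosed k] [FiniteDimensional k V] (hPp : IsPGroup p P)
    (hF : ∀ h : P, h ∉ Q → ∀ v : V, ρ (h ^ p) v = v → v = 0) (hP : (Nat.card P : k) ≠ 0) :
    ∀ (n : ℕ) (H : Subgroup P) (W : Submodule k V), Nat.card ↥(H ⊓ Q) = n →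
      (∀ t ∈ H, ¬ H ≤ Q ⊔ Subgroup.zpowers t) → IsIrr ρ (H ⊓ Q) W → Inv ρ H (H ⊓ Q) W →
      p = 2 ∧ ∀ d ∈ H ⊓ Q, ∃ ε : k, ε * ε = 1 ∧ ∀ w ∈ W, ρ d w = ε • w := by
  classical
  intro n
  induction n using Nat.strong_induction_on with
  | _ n ih => ?_
  intro H W hn hnc hW hinv
  set D := H ⊓ Q with hDdef
  by_cases hsc : ∀ d ∈ D, ∃ c : k, ∀ w ∈ W, ρ d w = c • w
  · exact terminal hPp hF hP hnc hW hinv hsc
  exfalso
  haveI : Group.IsNilpotent H := (hPp.to_subgroup H).isNilpotent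
  haveI : Fintype D := Fintype.ofFinite D
  -- a maximal subgroup of scalars
  obtain ⟨Z, ⟨hZn, hZD, hZs⟩, hZmax⟩ := Set.Finite.exists_maximal
    (s := {M : Subgroup H | M.Normal ∧ M ≤ D.subgroupOf H ∧
      ∀ m ∈ M, ∃ c : k, ∀ w ∈ W, ρ (m : P) w = c • w}) (Set.toFinite _)
    ⟨⊥, inferInstance, bot_le, fun m hm => ⟨1, fun w _ => by
      rw [Subgroup.mem_bot.1 hm, one_smul]; exact rho_one w⟩⟩
  haveI : Z.Normal := hZn
  haveI : (D.subgroupOf H).Normal :=
    ⟨fun a ha g => by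
      rw [Subgroup.mem_subgroupOf] at ha ⊢
      push_cast
      exact conj_mem_inf g.2 ha⟩
  have hZlt : Z < D.subgroupOf H := lt_of_le_of_ne hZD fun he => hsc fun d hd =>
    hZs ⟨d, hd.1⟩ (he ▸ (show (⟨d, hd.1⟩ : H) ∈ D.subgroupOf H from hd))
  obtain ⟨x₀, hx₀D, hx₀Z, hx₀c⟩ := CfsgLib.PGroupBasic.exists_central_mod Z _ hZlt
  -- a power of it of order `p` modulo `Z`
  obtain ⟨e₀, he₀⟩ := IsPGroup.iff_orderOf.1 ((hPp.to_subgroup H).to_quotient Z) (x₀ : H ⧸ Z)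
  obtain ⟨e, rfl⟩ : ∃ e, e₀ = e + 1 := by
    refine ⟨e₀ - 1, (Nat.succ_pred_eq_of_ne_zero ?_).symm⟩
    rintro rfl
    exact hx₀Z ((QuotientGroup.eq_one_iff x₀).1 (orderOf_eq_one_iff.1 (by simpa using he₀)))
  set y : H := x₀ ^ p ^ e with hydef
  have hyD : (y : P) ∈ D := by
    have : y ∈ D.subgroupOf H := Subgroup.pow_mem _ hx₀D _
    exact this
  have hyZ : y ∉ Z := by
    intro h
    have h1 := orderOf_dvd_of_pow_eq_one
      ((QuotientGroup.mk_pow Z x₀ _).symm.trans ((QuotientGroup.eq_one_iff _).2 h))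
    rw [he₀] at h1
    exact absurd (Nat.le_of_dvd (pow_pos hp.out.pos _) h1)
      (not_le.2 (Nat.pow_lt_pow_right hp.out.one_lt (by omega)))
  have hypZ : y ^ p ∈ Z := by
    rw [hydef, ← pow_mul, ← pow_succ, ← QuotientGroup.eq_one_iff, QuotientGroup.mk_pow, ← he₀,
      pow_orderOf_eq_one]
  have hyc : ∀ g : H, g * y * g⁻¹ * y⁻¹ ∈ Z := by
    intro g
    rw [← QuotientGroup.eq_one_iff]
    have h : (x₀ : H ⧸ Z) * g = g * x₀ := by
      have := (QuotientGroup.eq_one_iff (N := Z) _).2 (hx₀c g)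
      rw [QuotientGroup.mk_mul, QuotientGroup.mk_mul, QuotientGroup.mk_mul, QuotientGroup.mk_inv,
        QuotientGroup.mk_inv, mul_inv_eq_one, mul_inv_eq_iff_eq_mul] at this
      exact this
    simp only [hydef, QuotientGroup.mk_mul, QuotientGroup.mk_inv, QuotientGroup.mk_pow]
    rw [← (Commute.pow_left h (p ^ e)).eq, mul_inv_cancel_right, mul_inv_cancel]
  -- the scalars of `Z` on the translates of `W`
  choose! c hc using hZs
  have hWp : ∀ z : H, z ∈ Z → ∀ h ∈ H, ∀ w ∈ W, ρ (z : P) (ρ h w) = c z • ρ h w := by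
    intro z hz h hh w hw
    have hz' : (⟨h, hh⟩⁻¹ * z * ⟨h, hh⟩ : H) ∈ Z := hZn.conj_mem' z hz _
    have hcz : ∀ u ∈ W, ρ (h⁻¹ * (z : P) * h) u = c (⟨h, hh⟩⁻¹ * z * ⟨h, hh⟩) • u := fun u hu => by
      have := hc _ hz' u hu
      push_cast at this
      exact this
    have he : c z = c (⟨h, hh⟩⁻¹ * z * ⟨h, hh⟩) :=
      scalar_inv hW hinv hP (hZD hz) hh (hc z hz) hcz
    rw [he, ← map_smul, ← hcz w hw, ← rho_mul, ← rho_mul]
    congr 2
    group
  have hcz1 : ∀ z ∈ Z, ∀ z' ∈ Z, c (z * z') = c z * c z' := by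
    intro z hz z' hz'
    obtain ⟨w, hw, hw0⟩ := hW.exists_ne
    refine smul_left_injective k hw0 ?_
    show c (z * z') • w = (c z * c z') • w
    rw [← hc _ (Z.mul_mem hz hz') w hw, Subgroup.coe_mul, rho_mul, hc z' hz' w hw, map_smul,
      hc z hz w hw, smul_smul, mul_comm]
  -- the multiplier of `y`
  set σ : H → k := fun g => c (g * y * g⁻¹ * y⁻¹) with hσ
  have hσmul : ∀ a b : H, σ (a * b) = σ a * σ b := by
    intro a b
    have e1 : a * b * y * (a * b)⁻¹ * y⁻¹ =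
        (a * (b * y * b⁻¹ * y⁻¹) * a⁻¹) * (a * y * a⁻¹ * y⁻¹) := by group
    have hm := hZn.conj_mem _ (hyc b) a
    have hcb : c (a * (b * y * b⁻¹ * y⁻¹) * a⁻¹) = c (b * y * b⁻¹ * y⁻¹) := by
      obtain ⟨w, hw, hw0⟩ := hW.exists_ne
      have h1 := hWp _ (hyc b) (a : P)⁻¹ (H.inv_mem a.2) w hw
      refine smul_left_injective k hw0 ?_
      show c (a * (b * y * b⁻¹ * y⁻¹) * a⁻¹) • w = c (b * y * b⁻¹ * y⁻¹) • w
      have h2 := congrArg (ρ (a : P)) h1
      rw [map_smul, rho_inv_self] at h2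
      rw [← h2, ← hc _ hm w hw, ← rho_mul, ← rho_mul]
      congr 2
    show c (a * b * y * (a * b)⁻¹ * y⁻¹) = c (a * y * a⁻¹ * y⁻¹) * c (b * y * b⁻¹ * y⁻¹)
    rw [e1, hcz1 _ hm _ (hyc a), hcb, mul_comm]
  have hσ1 : σ 1 = 1 := by
    obtain ⟨w, hw, hw0⟩ := hW.exists_ne
    refine smul_left_injective k hw0 ?_
    show σ 1 • w = (1 : k) • w
    rw [hσ, one_smul, ← hc _ (hyc 1) w hw]
    simp
  let σh : H →* k := { toFun := σ, map_one' := hσ1, map_mul' := hσmul }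
  set S : Subgroup P := σh.ker.map H.subtype with hSdef
  have hSH : S ≤ H := Subgroup.map_subtype_le _
  have hmemS : ∀ {g : P} (hg : g ∈ H), g ∈ S ↔ σ ⟨g, hg⟩ = 1 := by
    intro g hg
    constructor
    · rintro ⟨⟨g', hg'⟩, h, rfl⟩; exact h
    · intro h; exact ⟨⟨g, hg⟩, h, rfl⟩
  set D' := S ⊓ Q with hD'def
  have hD'D : D' ≤ D := inf_le_inf_right _ hSH
  haveI : Fintype D' := Fintype.ofFinite D'
  -- eigenvectors of `y`
  have hmove : ∀ {μ : k} {h : P}, h ∈ H → ∀ {w : V}, w ∈ W → ρ (y : P) w = μ • w → ∀ (g : H),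
      h = g → ρ (y : P) (ρ h w) = (μ * σ g⁻¹) • ρ h w := by
    intro μ h hh w hw hy g hg
    subst hg
    have e1 : (y : P) * g = g * ((g⁻¹ * y * g * y⁻¹ : H) : P) * y := by push_cast; group
    rw [← rho_mul, e1, rho_mul, rho_mul, hy, map_smul, map_smul]
    have hz : (g⁻¹ * y * g * y⁻¹ : H) ∈ Z := by simpa using hyc g⁻¹
    rw [hc _ hz w hw, map_smul, smul_smul]
    congr 2
    simp [hσ]
  haveI : Nontrivial W := Submodule.nontrivial_iff_ne_bot.2 hW.ne_bot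
  obtain ⟨μ, hμ⟩ := Module.End.exists_eigenvalue
    ((ρ (y : P)).restrict (p := W) (q := W) fun w hw => hW.invariant _ hyD w hw)
  obtain ⟨w₀, hw₀⟩ := hμ.exists_hasEigenvector
  set Wμ : Submodule k V := W ⊓ LinearMap.ker (ρ (y : P) - μ • 1) with hWμ
  have hmemW : ∀ {u : V}, u ∈ Wμ ↔ u ∈ W ∧ ρ (y : P) u = μ • u := by
    intro u; simp [hWμ, sub_eq_zero]
  have hw₀μ : (w₀ : V) ∈ Wμ := hmemW.2 ⟨w₀.2, by
    have h := congrArg Subtype.val hw₀.apply_eq_smul
    simpa using h⟩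
  have hw₀0 : (w₀ : V) ≠ 0 := fun h => hw₀.2 (Subtype.ext h)
  have hμ0 : μ ≠ 0 := fun h => hw₀0 (rho_eq_zero (a := (y : P))
    (by rw [(hmemW.1 hw₀μ).2, h, zero_smul]))
  have hp0 : (p : k) ≠ 0 := by
    obtain ⟨m, hm⟩ := hPp.exists_card_eq
    have hm0 : m ≠ 0 := by
      rintro rfl
      haveI : Subsingleton P := (Nat.card_eq_one_iff_unique.1 (by simpa using hm)).1
      exact hyZ (by rw [Subsingleton.elim y 1]; exact Z.one_mem)
    intro h; apply hP
    rw [hm, Nat.cast_pow, h, zero_pow hm0]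
  set π : Module.End k V := ∑ i ∈ Finset.range p, (μ⁻¹) ^ i • ρ ((y : P) ^ i) with hπdef
  have hpow : ∀ {u : V} {ν : k}, ρ (y : P) u = ν • u → ∀ i : ℕ, ρ ((y : P) ^ i) u = ν ^ i • u := by
    intro u ν h i
    induction i with
    | zero => rw [pow_zero, pow_zero, one_smul, rho_one]
    | succ i ih => rw [pow_succ', rho_mul, ih, map_smul, h, smul_smul, pow_succ]
  have hπ : ∀ {u : V} {ν : k}, ρ (y : P) u = ν • u →
      π u = (∑ i ∈ Finset.range p, (μ⁻¹ * ν) ^ i) • u := by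
    intro u ν h
    rw [hπdef, LinearMap.sum_apply, Finset.sum_smul]
    refine Finset.sum_congr rfl fun i _ => ?_
    rw [LinearMap.smul_apply, hpow h, smul_smul, mul_pow]
  have hμp : ∀ w ∈ W, ∀ h ∈ H, ρ ((y : P) ^ p) (ρ h w) = μ ^ p • ρ h w := by
    intro w hw h hh
    have h1 := hWp _ hypZ h hh w hw
    push_cast at h1
    have h2 := hc _ hypZ _ w₀.2
    push_cast at h2
    rw [hpow (hmemW.1 hw₀μ).2] at h2
    rw [h1, smul_left_injective k hw₀0 h2]
  -- the values of `π` on translates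
  have hkey : ∀ u ∈ Wμ, ∀ h ∈ H, π (ρ h u) = if h ∈ S then (p : k) • ρ h u else 0 := by
    intro u hu h hh
    obtain ⟨huW, huy⟩ := hmemW.1 hu
    have h1 := hmove hh huW huy ⟨h, hh⟩ rfl
    rw [hπ h1, ← mul_assoc, inv_mul_cancel₀ hμ0, one_mul]
    split_ifs with hS
    · have : σ (⟨h, hh⟩ : H)⁻¹ = 1 := (hmemS (H.inv_mem hh)).1 (S.inv_mem hS)
      rw [this]
      simp
    · by_cases hu0 : ρ h u = 0
      · rw [hu0, smul_zero]
      have hne : σ (⟨h, hh⟩ : H)⁻¹ ≠ 1 := fun h' =>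
        hS (inv_inv h ▸ S.inv_mem ((hmemS (H.inv_mem hh)).2 h'))
      have h2 := hpow h1 p
      rw [hμp u huW h hh, mul_pow] at h2
      have h3 := smul_left_injective k hu0 h2
      have h4 : σ (⟨h, hh⟩ : H)⁻¹ ^ p = 1 :=
        mul_left_cancel₀ (pow_ne_zero p hμ0) (by rw [mul_one]; exact h3.symm)
      have h5 := geom_sum_mul (σ (⟨h, hh⟩ : H)⁻¹) p
      rw [h4, sub_self, mul_eq_zero, sub_eq_zero] at h5
      rw [h5.resolve_right hne, zero_smul]
  have hD'stab : ∀ d ∈ D', ∀ u ∈ Wμ, ρ d u ∈ Wμ := by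
    intro d hd u hu
    obtain ⟨huW, huy⟩ := hmemW.1 hu
    refine hmemW.2 ⟨hW.invariant d (hD'D hd) u huW, ?_⟩
    rw [hmove (hSH hd.1) huW huy ⟨d, hSH hd.1⟩ rfl]
    rw [(hmemS (H.inv_mem (hSH hd.1))).1 (S.inv_mem hd.1) |> fun h =>
      show σ (⟨d, hSH hd.1⟩ : H)⁻¹ = 1 from h, mul_one]
  have hWne : Wμ ≠ W := by
    intro he
    refine hyZ (hZmax (?_ : (Z ⊔ Subgroup.zpowers y).Normal ∧ _ ∧ _) le_sup_left
      (Subgroup.mem_sup_right (Subgroup.mem_zpowers y)))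
    refine ⟨⟨fun a ha g => ?_⟩, sup_le hZD (Subgroup.zpowers_le.2 hyD), fun m hm => ?_⟩
    · obtain ⟨u, hu, v, ⟨i, rfl⟩, rfl⟩ := Subgroup.mem_sup_of_normal_left.1 ha
      have e1 : g * (u * y ^ i) * g⁻¹ = (g * u * g⁻¹) * (g * y ^ i * g⁻¹) := by group
      rw [e1, ← conj_zpow]
      refine Subgroup.mul_mem _ (Subgroup.mem_sup_left (hZn.conj_mem u hu g))
        (Subgroup.zpow_mem _ ?_ i)
      rw [show g * y * g⁻¹ = (g * y * g⁻¹ * y⁻¹) * y by group]
      exact Subgroup.mul_mem _ (Subgroup.mem_sup_left (hyc g))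
        (Subgroup.mem_sup_right (Subgroup.mem_zpowers y))
    · obtain ⟨u, hu, v, hv, rfl⟩ := Subgroup.mem_sup_of_normal_left.1 hm
      obtain ⟨j, rfl⟩ := (Submonoid.mem_powers_iff _ _).1 (mem_powers_iff_mem_zpowers.2 hv)
      refine ⟨μ ^ j * c u, fun w hw => ?_⟩
      push_cast
      rw [rho_mul, hpow ((hmemW.1 (he.symm ▸ hw : w ∈ Wμ)).2), map_smul, hc u hu w hw, smul_smul]
  -- irreducibility
  have hirr : IsIrr ρ D' Wμ := by
    refine ⟨fun h => hw₀0 (by rw [h] at hw₀μ; exact (Submodule.mem_bot k).1 hw₀μ), hD'stab,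
      fun U hU hU0 hUi => le_antisymm hU ?_⟩
    let T : Submodule k V := ⨆ d : D, U.map (ρ (d : P))
    have hT : T = W := by
      refine hW.minimal T (iSup_le fun d => ?_) ?_ ?_
      · rintro _ ⟨u, hu, rfl⟩
        exact hW.invariant d d.2 u (hmemW.1 (hU hu)).1
      · obtain ⟨u, hu, hu0⟩ := Submodule.exists_mem_ne_zero_of_ne_bot hU0
        intro hT0
        have : ρ ((1 : D) : P) u ∈ T :=
          le_iSup (fun d : D => U.map (ρ (d : P))) 1 ⟨u, hu, rfl⟩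
        rw [hT0, Subgroup.coe_one, rho_one] at this
        exact hu0 ((Submodule.mem_bot k).1 this)
      · intro d hd u hu
        have : T ≤ T.comap (ρ d) := iSup_le fun e => by
          rintro _ ⟨u, hu, rfl⟩
          rw [Submodule.mem_comap, ← rho_mul]
          exact le_iSup (fun d : D => U.map (ρ (d : P))) (⟨d, hd⟩ * e) ⟨u, hu, rfl⟩
        exact this hu
    have hTπ : T ≤ U.comap π := iSup_le fun e => by
      rintro _ ⟨u, hu, rfl⟩
      rw [Submodule.mem_comap, hkey u (hU hu) e e.2.1]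
      split_ifs with h
      · exact U.smul_mem _ (hUi e ⟨h, e.2.2⟩ u hu)
      · exact U.zero_mem
    intro w hw
    have h1 : π w ∈ U := hTπ (hT.symm ▸ (hmemW.1 hw).1)
    have h2 := hkey w hw 1 H.one_mem
    rw [if_pos S.one_mem, rho_one] at h2
    rw [h2] at h1
    simpa [smul_smul, inv_mul_cancel₀ hp0] using U.smul_mem ((p : k))⁻¹ h1
  -- induced functions
  let ind : (P → k) → P → k := fun f =>
    avg D fun x => ∑ i ∈ Finset.range p, (μ⁻¹) ^ i * f (x * ((y : P) ^ i)⁻¹)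
  have hind : ∀ f : P → k, IsCls D' f → IsCls D (ind f) := fun f hf => isCls_avg fun x hx =>
    Finset.sum_eq_zero fun i _ => by
      rw [hf.1 _ fun h => hx ?_, mul_zero]
      simpa using D.mul_mem (hD'D h) (D.pow_mem hyD i)
  have hindop : ∀ f : P → k, ∀ v : V,
      op ρ (fun x => ∑ i ∈ Finset.range p, (μ⁻¹) ^ i * f (x * ((y : P) ^ i)⁻¹)) v =
        op ρ f (π v) := by
    intro f v
    rw [hπdef, LinearMap.sum_apply, map_sum, op_apply]
    simp only [Finset.sum_smul]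
    rw [Finset.sum_comm]
    refine Finset.sum_congr rfl fun i _ => ?_
    rw [LinearMap.smul_apply, map_smul, op_apply, Finset.smul_sum]
    refine Fintype.sum_equiv (Equiv.mulRight ((y : P) ^ i)⁻¹) _ _ fun x => ?_
    rw [smul_smul, ← rho_mul]
    simp
  have hindW : ∀ f : P → k, IsCls D' f → ∀ u ∈ Wμ, ∀ g ∈ H,
      op ρ (ind f) (ρ g u) =
        ∑ d : D, if (d : P)⁻¹ * g ∈ S then
          (p : k) • ρ (d : P) (op ρ f (ρ ((d : P)⁻¹ * g) u)) else 0 := by
    intro f _ u hu g hg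
    show op ρ (avg D _) _ = _
    rw [op_avg]
    refine Finset.sum_congr rfl fun d _ => ?_
    rw [hindop, ← rho_mul, hkey u hu _ (H.mul_mem (H.inv_mem d.2.1) hg)]
    split_ifs
    · rw [map_smul, map_smul]
    · rw [map_zero, map_zero]
  -- elements of `S` keep the scalars
  have hsumS : ∀ f : P → k, IsCls D' f → ∀ u ∈ Wμ, ∀ g ∈ S,
      op ρ (ind f) (ρ g u) = ((Fintype.card D' : k) * p) • op ρ f (ρ g u) := by
    intro f hf u hu g hg
    rw [hindW f hf u hu g (hSH hg), ← Finset.sum_filter]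
    have : ∀ d ∈ Finset.univ.filter (fun d : D => (d : P)⁻¹ * g ∈ S),
        (p : k) • ρ (d : P) (op ρ f (ρ ((d : P)⁻¹ * g) u)) = (p : k) • op ρ f (ρ g u) := by
      intro d hd
      have hdS : (d : P) ∈ D' := ⟨by
        have := S.mul_mem hg (S.inv_mem (Finset.mem_filter.1 hd).2)
        simpa using this, d.2.2⟩
      rw [← hf.commute hdS, ← rho_mul, mul_inv_cancel_left]
    rw [Finset.sum_congr rfl this, Finset.sum_const, ← Nat.cast_smul_eq_nsmul k, smul_smul]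
    congr 2
    rw [← Fintype.card_subtype]
    refine congrArg Nat.cast (Fintype.card_congr (show {d : D // (d : P)⁻¹ * g ∈ S} ≃ D' from
      { toFun := fun d => ⟨d.1, ⟨by
          have := S.mul_mem hg (S.inv_mem d.2)
          simpa using this, d.1.2.2⟩⟩
        invFun := fun d => ⟨⟨d.1, hD'D d.2⟩, S.mul_mem (S.inv_mem d.2.1) hg⟩
        left_inv := fun _ => rfl
        right_inv := fun _ => rfl }))
  have hcardD' : (Fintype.card D' : k) ≠ 0 := by
    intro h0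
    obtain ⟨r, hr⟩ := Subgroup.card_subgroup_dvd_card D'
    apply hP
    rw [hr, Nat.cast_mul, Nat.card_eq_fintype_card (α := D'), h0, zero_mul]
  have hinvS : Inv ρ S D' Wμ := by
    intro f hf a ha g hg u hu
    obtain ⟨b, hb⟩ := hW.exists_scalar (hind f hf)
    have hb' : b = (Fintype.card D' : k) * p * a := by
      have h1 := hsumS f hf _ hw₀μ 1 S.one_mem
      rw [rho_one, hb _ w₀.2, ha _ hw₀μ, smul_smul] at h1
      exact smul_left_injective k hw₀0 h1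
    have h2 := hinv _ (hind f hf) b hb g (hSH hg) u (hmemW.1 hu).1
    rw [hsumS f hf u hu g hg, hb', mul_smul ((Fintype.card D' : k) * p) a] at h2
    exact smul_right_injective V (mul_ne_zero hcardD' hp0) h2
  -- `S` covers `H` modulo `Q`
  have hcover : ∀ g ∈ H, ∃ d ∈ D, d⁻¹ * g ∈ S := by
    intro g hg
    have hf : IsCls D' (Pi.single (1 : P) (1 : k)) := by
      refine ⟨fun x hx => ?_, fun d _ x => ?_⟩
      · rw [Pi.single_eq_of_ne]; rintro rfl; exact hx D'.one_mem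
      · simp [Pi.single_apply, mul_inv_eq_one, mul_eq_left]
    obtain ⟨b, hb⟩ := hW.exists_scalar (hind _ hf)
    have h1 := hsumS _ hf _ hw₀μ 1 S.one_mem
    rw [rho_one, hb _ w₀.2, op_single, rho_one] at h1
    by_contra hno
    push Not at hno
    have h2 := hinv _ (hind _ hf) b hb g hg _ w₀.2
    rw [hindW _ hf _ hw₀μ g hg, Finset.sum_eq_zero fun (d : D) _ => if_neg (hno (d : P) d.2)] at h2
    rcases smul_eq_zero.1 h2.symm with h3 | h3
    · rw [smul_left_injective k hw₀0 h1] at h3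
      exact mul_ne_zero hcardD' hp0 h3
    · exact hw₀0 (rho_eq_zero h3)
  have hlt : Nat.card D' < n := by
    rw [← hn]
    refine Set.ncard_lt_ncard (SetLike.coe_ssubset_coe.2 (lt_of_le_of_ne hD'D fun he => hWne ?_))
      (Set.toFinite _)
    exact hW.minimal Wμ inf_le_left hirr.ne_bot fun d hd u hu => hD'stab d (he.symm ▸ hd) u hu
  have hncS : ∀ t ∈ S, ¬ S ≤ Q ⊔ Subgroup.zpowers t := by
    intro t ht hle
    refine hnc t (hSH ht) fun g hg => ?_
    obtain ⟨d, hd, hdg⟩ := hcover g hg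
    simpa using Subgroup.mul_mem _ (Subgroup.mem_sup_left hd.2) (hle hdg)
  obtain ⟨hp2, hsign⟩ := ih _ hlt S Wμ rfl hncS hirr hinvS
  subst hp2
  choose! L hL2 hL using hsign
  have hLv : ∀ d ∈ D', ρ d (w₀ : V) = L d • (w₀ : V) := fun d hd => hL d hd _ hw₀μ
  have hLmul : ∀ a ∈ D', ∀ b ∈ D', L (a * b) = L a * L b := by
    intro a ha b hb
    refine smul_left_injective k hw₀0 ?_
    show L (a * b) • (w₀ : V) = (L a * L b) • (w₀ : V)
    rw [← hLv _ (D'.mul_mem ha hb), rho_mul, hLv b hb, map_smul, hLv a ha, smul_smul, mul_comm]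
  have hLinv : ∀ d ∈ D', ∀ g ∈ S, L (g * d * g⁻¹) = L d := by
    intro d hd g hg
    have hm : g⁻¹⁻¹ * d * g⁻¹ ∈ D' := conj_mem_inf' (S.inv_mem hg) hd
    have := scalar_inv hirr hinvS hP hd (S.inv_mem hg) (hL d hd) (hL _ hm)
    rw [inv_inv] at this
    exact this.symm
  have hyS : (y : P) ∈ S := (hmemS y.2).2 (by
    obtain ⟨w, hw, hw0⟩ := hW.exists_ne
    refine smul_left_injective k hw0 ?_
    show σ ⟨(y : P), y.2⟩ • w = (1 : k) • w
    rw [hσ, one_smul, ← hc _ (hyc y) w hw]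
    simp)
  have hyD' : (y : P) ∈ D' := ⟨hyS, hyD.2⟩
  have hσsq : ∀ g : H, σ g * σ g = 1 := by
    intro g
    have h1 := hmove g.2 w₀.2 (hmemW.1 hw₀μ).2 g rfl
    have h2 := hpow h1 2
    rw [hμp _ w₀.2 g g.2, mul_pow] at h2
    have h3 := smul_left_injective k (fun h0 => hw₀0 (rho_eq_zero h0)) h2
    have h4 : σ g⁻¹ ^ 2 = 1 := mul_left_cancel₀ (pow_ne_zero 2 hμ0) (by rw [mul_one]; exact h3.symm)
    have h5 := hσmul g g⁻¹
    rw [mul_inv_cancel, hσ1] at h5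
    calc σ g * σ g = σ g * σ g * σ g⁻¹ ^ 2 := by rw [h4, mul_one]
      _ = (σ g * σ g⁻¹) ^ 2 := by ring
      _ = 1 := by rw [← h5, one_pow]
  have hneg : ∀ g : H, (g : P) ∉ S → σ g = -1 := by
    intro g hg
    rcases mul_self_eq_one_iff.1 (hσsq g) with h | h
    · exact absurd ((hmemS g.2).2 h) hg
    · exact h
  have hmul' : ∀ a b : H, (a : P) ∉ S → (b : P) ∉ S → ((a * b : H) : P) ∈ S := fun a b ha hb =>
    (hmemS (a * b).2).2 (by
      show σ (a * b) = 1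
      rw [hσmul, hneg a ha, hneg b hb, neg_mul_neg, one_mul])
  obtain ⟨q, hqD, hqS⟩ : ∃ q ∈ D, q ∉ S := by
    by_contra hall
    push Not at hall
    exact absurd hlt (not_lt.2 (hn ▸ Subgroup.card_le_of_le fun d hd => ⟨hall d hd, hd.2⟩))
  set qH : H := ⟨q, hqD.1⟩
  have hqinv : ((qH⁻¹ : H) : P) ∉ S := fun h => hqS (by simpa [qH] using S.inv_mem h)
  have hqq : q * q ∈ D' := ⟨hmul' qH qH hqS hqS, Q.mul_mem hqD.2 hqD.2⟩
  have hconjq : ∀ d ∈ D', q⁻¹ * d * q ∈ D' := by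
    intro d hd
    refine ⟨(hmemS (H.mul_mem (H.mul_mem (H.inv_mem hqD.1) (hSH hd.1)) hqD.1)).2 ?_,
      Q.mul_mem (Q.mul_mem (Q.inv_mem hqD.2) hd.2) hqD.2⟩
    show σ (qH⁻¹ * ⟨d, hSH hd.1⟩ * qH) = 1
    rw [hσmul, hσmul, (hmemS (hSH hd.1)).1 hd.1, mul_one, ← hσmul, inv_mul_cancel, hσ1]
  -- `y` separates
  have hLy : L (q⁻¹ * y * q) = -L y := by
    refine smul_left_injective k hw₀0 ?_
    show L (q⁻¹ * y * q) • (w₀ : V) = (-L y) • (w₀ : V)
    rw [← hLv _ (hconjq _ hyD')]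
    have hLy' : L y = μ := smul_left_injective k hw₀0 ((hLv _ hyD').symm.trans (hmemW.1 hw₀μ).2)
    have h1 := hmove hqD.1 w₀.2 (hmemW.1 hw₀μ).2 qH rfl
    rw [rho_mul, rho_mul, h1, map_smul, inv_rho_self, hneg _ hqinv, mul_neg_one, hLy']
  -- an element of `S` outside `Q` whose square is in `Q`
  obtain ⟨h₁, hh₁S, hh₁Q, hh₁sq⟩ : ∃ h ∈ S, h ∉ Q ∧ h * h ∈ Q := by
    obtain ⟨g, hgS, hgQ⟩ : ∃ g ∈ S, g ∉ Q := by
      by_contra hall
      push Not at hall
      exact hncS 1 S.one_mem fun g hg => Subgroup.mem_sup_left (hall g hg)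
    obtain ⟨i, hi⟩ := IsPGroup.iff_orderOf.1 (hPp.to_quotient Q) (g : P ⧸ Q)
    rcases i with _ | i
    · exact absurd ((QuotientGroup.eq_one_iff g).1 (orderOf_eq_one_iff.1 (by simpa using hi))) hgQ
    refine ⟨g ^ 2 ^ i, S.pow_mem hgS _, fun h => ?_, ?_⟩
    · have h1 := orderOf_dvd_of_pow_eq_one
        ((QuotientGroup.mk_pow Q g _).symm.trans ((QuotientGroup.eq_one_iff _).2 h))
      rw [hi] at h1
      exact absurd (Nat.le_of_dvd (by positivity) h1)
        (not_le.2 (Nat.pow_lt_pow_right one_lt_two (by omega)))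
    · rw [← pow_add, ← QuotientGroup.eq_one_iff, QuotientGroup.mk_pow,
        show 2 ^ i + 2 ^ i = 2 ^ (i + 1) by ring, ← hi, pow_orderOf_eq_one]
  -- conjugation of `q` by an element of `S`
  have hcD' : ∀ g ∈ S, q⁻¹ * (g * q * g⁻¹) ∈ D' := by
    intro g hg
    refine ⟨?_, Q.mul_mem (Q.inv_mem hqD.2) (Subgroup.Normal.conj_mem inferInstance _ hqD.2 g)⟩
    have h1 : ((⟨g, hSH hg⟩ * qH * ⟨g, hSH hg⟩⁻¹ : H) : P) ∉ S := by
      intro h
      refine hqS ?_
      have := S.mul_mem (S.mul_mem (S.inv_mem hg) h) hg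
      simpa [qH, mul_assoc] using this
    exact hmul' qH⁻¹ _ hqinv h1
  have hcsq : ∀ g ∈ S, L (q⁻¹ * (q⁻¹ * (g * q * g⁻¹)) * q) = L (q⁻¹ * (g * q * g⁻¹)) := by
    intro g hg
    set cg := q⁻¹ * (g * q * g⁻¹)
    have hcm := hcD' g hg
    have e1 : (q * q) * ((q⁻¹ * cg * q) * cg) = g * (q * q) * g⁻¹ := by
      simp only [cg]; group
    have h1 := congrArg L e1
    rw [hLmul _ hqq _ (D'.mul_mem (hconjq _ hcm) hcm), hLmul _ (hconjq _ hcm) _ hcm,
      hLinv _ hqq g hg] at h1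
    have h2 : L (q⁻¹ * cg * q) * L cg = 1 :=
      mul_left_cancel₀ (show L (q * q) ≠ 0 from fun h0 => by have h9 := hL2 _ hqq; rw [h0, mul_zero] at h9; exact zero_ne_one h9) (by rw [mul_one]; exact h1)
    calc L (q⁻¹ * cg * q) = L (q⁻¹ * cg * q) * (L cg * L cg) := by rw [hL2 _ hcm, mul_one]
      _ = L cg := by rw [← mul_assoc, h2, one_mul]
  -- adjust by `y`
  obtain ⟨h, hhS, hhQ, hhsq, hhc⟩ : ∃ h ∈ S, h ∉ Q ∧ h * h ∈ Q ∧ L (q⁻¹ * (h * q * h⁻¹)) = 1 := by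
    rcases mul_self_eq_one_iff.1 (hL2 _ (hcD' h₁ hh₁S)) with h1 | h1
    · exact ⟨h₁, hh₁S, hh₁Q, hh₁sq, h1⟩
    refine ⟨h₁ * y, S.mul_mem hh₁S hyS, fun hQ => hh₁Q ((Q.mul_mem_cancel_right hyD.2).1 hQ), ?_, ?_⟩
    · have e1 : h₁ * (y : P) * (h₁ * y) = (h₁ * y * h₁⁻¹) * (h₁ * h₁) * y := by group
      rw [e1]
      exact Q.mul_mem (Q.mul_mem (Subgroup.Normal.conj_mem inferInstance _ hyD.2 h₁) hh₁sq) hyD.2
    · have hy2 : q⁻¹ * (y : P) * q * (y : P)⁻¹ ∈ D' := D'.mul_mem (hconjq _ hyD') (D'.inv_mem hyD')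
      have e1 : q⁻¹ * (h₁ * y * q * (h₁ * y)⁻¹) =
          q⁻¹ * (h₁ * q * h₁⁻¹) * (h₁ * (q⁻¹ * y * q * (y : P)⁻¹) * h₁⁻¹) := by group
      rw [e1, hLmul _ (hcD' h₁ hh₁S) _ (conj_mem_inf hh₁S hy2), hLinv _ hy2 h₁ hh₁S,
        hLmul _ (hconjq _ hyD') _ (D'.inv_mem hyD'), hLy, h1]
      have h3 : L y * L (y : P)⁻¹ = 1 := by
        rw [← hLmul _ hyD' _ (D'.inv_mem hyD'), mul_inv_cancel]
        exact smul_left_injective k hw₀0 (by
          show L 1 • (w₀ : V) = (1 : k) • (w₀ : V)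
          rw [← hLv _ D'.one_mem, rho_one, one_smul])
      linear_combination h3
  have hhh : L (h * h) = -1 := by
    have hm : h * h ∈ D' := ⟨S.mul_mem hhS hhS, hhsq⟩
    refine (mul_self_eq_one_iff.1 (hL2 _ hm)).resolve_left fun h1 => hw₀0 (hF h hhQ _ ?_)
    rw [pow_two, hLv _ hm, h1, one_smul]
  -- `u` with square `-1`
  obtain ⟨u, huD, huu, huc, hui⟩ : ∃ u ∈ D, u * u ∈ D' ∧ L (u * u) = -1 ∧
      ∃ c' ∈ D', h⁻¹ * u * h = u * c' ∧ L (u⁻¹ * c' * u) = 1 := by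
    set c' := q⁻¹ * (h⁻¹ * q * h) with hc'
    have hc'D : c' ∈ D' := by simpa using hcD' h⁻¹ (S.inv_mem hhS)
    have hc'1 : L c' = 1 := by
      have hm := conj_mem_inf (H := S) (S.inv_mem hhS) (D'.inv_mem (hcD' h hhS))
      rw [inv_inv] at hm
      have e1 : c' = h⁻¹ * (q⁻¹ * (h * q * h⁻¹))⁻¹ * h := by rw [hc']; group
      have h3 := hLmul _ (hcD' h hhS) _ (D'.inv_mem (hcD' h hhS))
      rw [mul_inv_cancel, hhc, one_mul] at h3
      have h4 := hLinv _ (D'.inv_mem (hcD' h hhS)) h⁻¹ (S.inv_mem hhS)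
      rw [inv_inv] at h4
      rw [e1, h4, ← h3]
      exact smul_left_injective k hw₀0 (by
        show L 1 • (w₀ : V) = (1 : k) • (w₀ : V)
        rw [← hLv _ D'.one_mem, rho_one, one_smul])
    have hc'2 : L (q⁻¹ * c' * q) = 1 := by
      have := hcsq h⁻¹ (S.inv_mem hhS)
      rw [inv_inv] at this
      rw [hc'] at hc'1 ⊢
      rw [this, hc'1]
    have hc'q : h⁻¹ * q * h = q * c' := by rw [hc']; group
    rcases mul_self_eq_one_iff.1 (hL2 _ hqq) with h1 | h1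
    · have e0 : (q * (y : P)) * (q * y) = (q * q) * ((q⁻¹ * y * q) * y) := by group
      refine ⟨q * y, D.mul_mem hqD hyD, ?_, ?_,
        (y : P)⁻¹ * c' * (h⁻¹ * y * h), ?_, ?_, ?_⟩
      · rw [e0]; exact D'.mul_mem hqq (D'.mul_mem (hconjq _ hyD') hyD')
      · rw [e0, hLmul _ hqq _ (D'.mul_mem (hconjq _ hyD') hyD'), hLmul _ (hconjq _ hyD') _ hyD',
          h1, hLy, one_mul, neg_mul, hL2 _ hyD']
      · exact D'.mul_mem (D'.mul_mem (D'.inv_mem hyD') hc'D)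
          (conj_mem_inf' hhS hyD')
      · calc h⁻¹ * (q * y) * h = (h⁻¹ * q * h) * (h⁻¹ * y * h) := by group
          _ = q * c' * (h⁻¹ * y * h) := by rw [hc'q]
          _ = _ := by group
      · have hyh : h⁻¹ * (y : P) * h ∈ D' := conj_mem_inf' hhS hyD'
        have e1 : (q * (y : P))⁻¹ * ((y : P)⁻¹ * c' * (h⁻¹ * y * h)) * (q * y) =
            (y : P)⁻¹ * ((q⁻¹ * (y : P)⁻¹ * q) *
              ((q⁻¹ * c' * q) * (q⁻¹ * (h⁻¹ * y * h) * q))) * y := by
          group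
        have hm : (q⁻¹ * (y : P)⁻¹ * q) * ((q⁻¹ * c' * q) * (q⁻¹ * (h⁻¹ * y * h) * q)) ∈ D' :=
          D'.mul_mem (hconjq _ (D'.inv_mem hyD')) (D'.mul_mem (hconjq _ hc'D) (hconjq _ hyh))
        have h5 := hLinv _ hm (y : P)⁻¹ (S.inv_mem hyS)
        rw [inv_inv] at h5
        rw [e1, h5, hLmul _ (hconjq _ (D'.inv_mem hyD')) _ (D'.mul_mem (hconjq _ hc'D) (hconjq _ hyh)),
          hLmul _ (hconjq _ hc'D) _ (hconjq _ hyh), hc'2, one_mul]
        -- `q⁻¹ (h⁻¹ y h) q` is a conjugate of `q⁻¹ y q` by an element of `S`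
        have hg : q⁻¹ * h * q ∈ S := by
          refine (hmemS (H.mul_mem (H.mul_mem (H.inv_mem hqD.1) (hSH hhS)) hqD.1)).2 ?_
          show σ (qH⁻¹ * ⟨h, hSH hhS⟩ * qH) = 1
          rw [hσmul, hσmul, (hmemS (hSH hhS)).1 hhS, mul_one, ← hσmul, inv_mul_cancel, hσ1]
        have e2 : q⁻¹ * (h⁻¹ * y * h) * q =
            (q⁻¹ * h * q)⁻¹ * (q⁻¹ * y * q) * (q⁻¹ * h * q)⁻¹⁻¹ := by group
        rw [e2, hLinv _ (hconjq _ hyD') _ (S.inv_mem hg), ← hLmul _ (hconjq _ (D'.inv_mem hyD')) _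
          (hconjq _ hyD')]
        refine smul_left_injective k hw₀0 ?_
        show L _ • (w₀ : V) = (1 : k) • (w₀ : V)
        rw [show q⁻¹ * (y : P)⁻¹ * q * (q⁻¹ * y * q) = 1 by group, ← hLv _ D'.one_mem, rho_one,
          one_smul]
    · exact ⟨q, hqD, hqq, h1, c', hc'D, hc'q, hc'2⟩
  obtain ⟨c', hc'D, hc'eq, hc'L⟩ := hui
  refine hw₀0 (hF (h * u) (fun hQ => hhQ ((Q.mul_mem_cancel_right huD.2).1 hQ)) _ ?_)
  have e1 : (h * u) ^ 2 = (h * h) * ((u * u) * (u⁻¹ * c' * u)) := by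
    calc (h * u) ^ 2 = (h * h) * ((h⁻¹ * u * h) * u) := by rw [pow_two]; group
      _ = (h * h) * (u * c' * u) := by rw [hc'eq]
      _ = _ := by group
  have hm1 : u⁻¹ * c' * u ∈ D' := by
    refine ⟨(hmemS (H.mul_mem (H.mul_mem (H.inv_mem huD.1) (hSH hc'D.1)) huD.1)).2 ?_,
      Q.mul_mem (Q.mul_mem (Q.inv_mem huD.2) hc'D.2) huD.2⟩
    show σ ((⟨u, huD.1⟩ : H)⁻¹ * ⟨c', hSH hc'D.1⟩ * ⟨u, huD.1⟩) = 1
    rw [hσmul, hσmul, (hmemS (hSH hc'D.1)).1 hc'D.1, mul_one, ← hσmul, inv_mul_cancel, hσ1]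
  have hm2 : h * h ∈ D' := ⟨S.mul_mem hhS hhS, hhsq⟩
  rw [e1, hLv _ (D'.mul_mem hm2 (D'.mul_mem huu hm1)), hLmul _ hm2 _ (D'.mul_mem huu hm1),
    hLmul _ huu _ hm1, hhh, huc, hc'L, mul_one, neg_mul_neg, one_mul, one_smul]

end CfsgLib.CaminaPair.Descent
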