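import Cfsg.Agent.CaminaPair.Stabilizer
import Cfsg.Agent.Solvable.PGroupBasic

/-!
In a Camina pair `(P, Q)` of `p`-groups no homomorphism of a class algebra inside `Q` has
stabiliser `Q`, and a non-trivial one of the whole class algebra of `Q` has a stabiliser that is
not cyclic modulo `Q`.
-/

set_option autoImplicit false
set_option linter.style.haveILetI false
set_option linter.unusedSectionVars false

namespace CfsgLib.CaminaPair.Stab

open MonoidAlgebra ClassAlgebra

variable {P : Type*} [Group P] [Finite P] {Q : Subgroup P} [Q.Normal] {k : Type*} [Field k]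
variable {N N₀ : Subgroup P} [N.Normal] [N₀.Normal]

theorem classAlg_mono (h : N₀ ≤ N) :
    classAlg k (N₀.subgroupOf Q) ≤ classAlg k (N.subgroupOf Q) :=
  fun _ hc => ⟨hc.1, fun q hq => hc.2 q fun h' => hq (h h')⟩

/-- Restriction of homomorphisms. -/
noncomputable def res (h : N₀ ≤ N) (χ : Homs k (N.subgroupOf Q)) : Homs k (N₀.subgroupOf Q) :=
  χ.comp (Subalgebra.inclusion (classAlg_mono h))

theorem res_smul (h : N₀ ≤ N) (x : P) (χ : Homs k (N.subgroupOf Q)) :
    res h (x • χ) = x • res h χ :=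
  AlgHom.ext fun c => by
    show χ (act x⁻¹ _) = χ _
    exact congrArg χ (Subtype.ext rfl)

/-- The part of an element in the coset `N₀ n`. -/
noncomputable def piece (n : P) (hn : n ∈ N) (hN : N₀ ≤ N) (hc : ∀ w ∈ Q, w * n * w⁻¹ * n⁻¹ ∈ N₀)
    (c : classAlg k (N.subgroupOf Q)) : classAlg k (N.subgroupOf Q) := by
  classical
  exact ⟨MonoidAlgebra.ofCoeff (c.1.coeff.filter fun q : Q => (q : P) * n⁻¹ ∈ N₀), by
    refine ⟨fun q r => ?_, fun q hq => ?_⟩
    · simp only [coeff_ofCoeff, Finsupp.filter_apply, c.2.1 q r]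
      refine if_congr ?_ rfl rfl
      push_cast
      have e : (q : P) * r * (q : P)⁻¹ * n⁻¹ =
          ((q : P) * ((r : P) * n⁻¹) * (q : P)⁻¹) * ((q : P) * n * (q : P)⁻¹ * n⁻¹) := by group
      rw [e, Subgroup.mul_mem_cancel_right _ (hc q q.2)]
      exact ⟨fun h => by simpa [mul_assoc] using Subgroup.Normal.conj_mem inferInstance _ h (q : P)⁻¹,
        fun h => Subgroup.Normal.conj_mem inferInstance _ h q⟩
    · simp only [coeff_ofCoeff, Finsupp.filter_apply]
      rw [if_neg]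
      intro h
      refine hq ?_
      rw [Subgroup.mem_subgroupOf]
      simpa using N.mul_mem (hN h) hn⟩

theorem coeff_piece {n : P} (hn : n ∈ N) (hN : N₀ ≤ N)
    (hc : ∀ w ∈ Q, w * n * w⁻¹ * n⁻¹ ∈ N₀) (c : classAlg k (N.subgroupOf Q)) (q : Q)
    [Decidable ((q : P) * n⁻¹ ∈ N₀)] :
    (piece n hn hN hc c).1.coeff q = if (q : P) * n⁻¹ ∈ N₀ then c.1.coeff q else 0 := by
  simp only [piece, coeff_ofCoeff, Finsupp.filter_apply]
  split_ifs <;> rfl

/-- Supported on the coset `N₀ n`. -/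
def IsPiece (N₀ : Subgroup P) (n : P) (c : MonoidAlgebra k Q) : Prop :=
  ∀ q : Q, c.coeff q ≠ 0 → (q : P) * n⁻¹ ∈ N₀

theorem IsPiece.mul {n m : P} {a b : MonoidAlgebra k Q} (ha : IsPiece N₀ n a)
    (hb : IsPiece N₀ m b) : IsPiece N₀ (n * m) (a * b) := by
  classical
  intro q hq
  obtain ⟨u, hu, v, hv, rfl⟩ :=
    Finset.mem_mul.1 (support_coeff_mul_subset a b (Finsupp.mem_support_iff.2 hq))
  have e : ((u * v : Q) : P) * (n * m)⁻¹ =
      ((u : P) * n⁻¹) * (n * ((v : P) * m⁻¹) * n⁻¹) := by push_cast; group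
  rw [e]
  exact N₀.mul_mem (ha u (Finsupp.mem_support_iff.1 hu))
    (Subgroup.Normal.conj_mem inferInstance _ (hb v (Finsupp.mem_support_iff.1 hv)) n)

theorem IsPiece.one : IsPiece N₀ (1 : P) (1 : MonoidAlgebra k Q) := by
  classical
  intro q hq
  rw [MonoidAlgebra.one_def, MonoidAlgebra.coeff_single, Finsupp.single_apply] at hq
  split_ifs at hq with h
  · subst h; simp
  · exact absurd rfl hq

theorem IsPiece.pow {n : P} {a : MonoidAlgebra k Q} (ha : IsPiece N₀ n a) :
    ∀ m : ℕ, IsPiece N₀ (n ^ m) (a ^ m) := by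
  intro m
  induction m with
  | zero => simpa using IsPiece.one
  | succ m ih => simpa [pow_succ] using ih.mul ha

/-- An element supported on a coset inside `N₀` comes from the smaller algebra. -/
theorem IsPiece.exists_eq (hN : N₀ ≤ N) {n : P} (hn : n ∈ N₀) {c : classAlg k (N.subgroupOf Q)}
    (hc : IsPiece N₀ n c.1) :
    ∃ d : classAlg k (N₀.subgroupOf Q), Subalgebra.inclusion (classAlg_mono hN) d = c :=
  ⟨⟨c.1, c.2.1, fun q hq => by
    by_contra h
    exact hq (by simpa [Subgroup.mem_subgroupOf] using N₀.mul_mem (hc q h) hn)⟩, Subtype.ext rfl⟩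

variable [IsAlgClosed k] {p : ℕ} [hp : Fact p.Prime]

/-- At most `p` homomorphisms extend a given one over a subgroup of index `p`. -/
theorem card_ext_le (hN : N₀ ≤ N) {n : P} (hn : n ∈ N) (hnp : n ^ p ∈ N₀) (hn0 : n ∉ N₀)
    (hgen : N ≤ N₀ ⊔ Subgroup.zpowers n) (hc : ∀ w : P, w * n * w⁻¹ * n⁻¹ ∈ N₀)
    (ψ : Homs k (N₀.subgroupOf Q)) :
    Nat.card {χ : Homs k (N.subgroupOf Q) // res hN χ = ψ} ≤ p := by
  classical
  haveI := finite_homs (k := k) (N := N.subgroupOf Q)
  set E := {χ : Homs k (N.subgroupOf Q) // res hN χ = ψ}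
  have hcpow : ∀ (i : ℕ), ∀ w ∈ Q, w * n ^ i * w⁻¹ * (n ^ i)⁻¹ ∈ N₀ := by
    intro i w _
    have e : QuotientGroup.mk' N₀ (w * n * w⁻¹) = QuotientGroup.mk' N₀ n := by
      have := (QuotientGroup.eq_one_iff (N := N₀) _).2 (hc w)
      rw [← QuotientGroup.mk'_apply, map_mul, map_inv] at this
      exact mul_inv_eq_one.1 this
    refine (QuotientGroup.eq_one_iff (N := N₀) _).1 ?_
    have e2 : w * n ^ i * w⁻¹ = (w * n * w⁻¹) ^ i := conj_pow.symm
    rw [e2, ← QuotientGroup.mk'_apply, map_mul, map_pow, map_inv, map_pow, e, mul_inv_cancel]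
  let pc : ℕ → classAlg k (N.subgroupOf Q) → classAlg k (N.subgroupOf Q) := fun i c =>
    piece (n ^ i) (N.pow_mem hn i) hN (hcpow i) c
  have hpc : ∀ i c, IsPiece N₀ (n ^ i) (pc i c).1 := by
    intro i c q hq
    rw [coeff_piece] at hq
    by_contra h
    exact hq (if_neg h)
  have hord : orderOf (n : P ⧸ N₀) = p := orderOf_eq_prime
    (by rw [← QuotientGroup.mk_pow]; exact (QuotientGroup.eq_one_iff _).2 hnp)
    (fun h => hn0 ((QuotientGroup.eq_one_iff _).1 h))
  have hsum : ∀ c : classAlg k (N.subgroupOf Q), c = ∑ i ∈ Finset.range p, pc i c := by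
    intro c
    refine Subtype.ext (MonoidAlgebra.ext (Finsupp.ext fun q => ?_))
    rw [← Subalgebra.val_apply, ← Subalgebra.val_apply, map_sum, MonoidAlgebra.coeff_sum,
      Finsupp.coe_finset_sum, Finset.sum_apply]
    by_cases hq : c.1.coeff q = 0
    · rw [Finset.sum_eq_zero]
      · exact hq
      · intro i _
        simp only [Subalgebra.val_apply, pc, coeff_piece, hq, ite_self]
    have hqN : (q : P) ∈ N := by
      by_contra h
      exact hq (c.2.2 q h)
    obtain ⟨u, hu, v, hv, huv⟩ := Subgroup.mem_sup_of_normal_left.1 (hgen hqN)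
    obtain ⟨j, hj⟩ : ∃ j : ℕ, n ^ j = v :=
      (Submonoid.mem_powers_iff _ _).1 (mem_powers_iff_mem_zpowers.2 hv)
    have hkey : ∀ i : ℕ, ((q : P) * (n ^ i)⁻¹ ∈ N₀ ↔ i % p = j % p) := by
      intro i
      rw [← hord]
      show _ ↔ Nat.ModEq _ i j
      rw [← pow_eq_pow_iff_modEq, ← QuotientGroup.mk_pow,
        ← QuotientGroup.mk_pow, QuotientGroup.eq, ← huv, ← hj, mul_assoc,
        Subgroup.mul_mem_cancel_left _ hu]
      constructor
      · intro h
        simpa [mul_assoc] using Subgroup.Normal.conj_mem inferInstance _ h (n ^ i)⁻¹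
      · intro h
        simpa [mul_assoc] using Subgroup.Normal.conj_mem inferInstance _ h (n ^ i)
    rw [Finset.sum_eq_single (j % p)]
    · simp only [Subalgebra.val_apply, pc, coeff_piece]
      rw [if_pos ((hkey _).2 (Nat.mod_mod _ _))]
    · intro i hi hij
      simp only [Subalgebra.val_apply, pc, coeff_piece]
      rw [if_neg fun h => hij ?_]
      rw [← (hkey i).1 h, Nat.mod_eq_of_lt (Finset.mem_range.1 hi)]
    · intro h
      exact absurd (Finset.mem_range.2 (Nat.mod_lt _ hp.out.pos)) h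
  have hext : ∀ (χ : E) (c : classAlg k (N.subgroupOf Q)) (m : P), m ∈ N₀ → IsPiece N₀ m c.1 →
      ∀ χ' : E, χ.1 c = χ'.1 c := by
    intro χ c m hm hpiece χ'
    obtain ⟨d, rfl⟩ := hpiece.exists_eq hN hm
    exact (DFunLike.congr_fun χ.2 d).trans (DFunLike.congr_fun χ'.2 d).symm
  by_cases hall : ∀ (χ : E) (i : ℕ) (c : classAlg k (N.subgroupOf Q)), ¬ p ∣ i → χ.1 (pc i c) = 0
  · haveI : Subsingleton E := ⟨fun χ χ' => Subtype.ext (AlgHom.ext fun c => by
      rw [hsum c, map_sum, map_sum]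
      refine Finset.sum_congr rfl fun i _ => ?_
      by_cases hi : p ∣ i
      · obtain ⟨r, rfl⟩ := hi
        exact hext χ _ _ (by rw [pow_mul]; exact N₀.pow_mem hnp r) (hpc (p * r) c) χ'
      · rw [hall χ i c hi, hall χ' i c hi])⟩
    exact (Finite.card_le_one_iff_subsingleton.2 inferInstance).trans hp.out.one_lt.le
  push Not at hall
  obtain ⟨χ₁, i, c₁, hi, hb⟩ := hall
  set b := pc i c₁
  have hbp : ∀ χ : E, χ.1 b ^ p = χ₁.1 b ^ p := by
    intro χ
    rw [← map_pow, ← map_pow]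
    refine hext χ _ ((n ^ i) ^ p) ?_ (by simpa using (hpc i c₁).pow p) χ₁
    rw [← pow_mul, mul_comm, pow_mul]
    exact N₀.pow_mem hnp i
  have hbne : ∀ χ : E, χ.1 b ≠ 0 := fun χ h => hb (by
    have := hbp χ
    rw [h, zero_pow hp.out.ne_zero] at this
    exact pow_eq_zero_iff hp.out.ne_zero |>.1 this.symm)
  let f : E → {z : k // z ∈ (Polynomial.nthRoots p (χ₁.1 b ^ p)).toFinset} := fun χ =>
    ⟨χ.1 b, by rw [Multiset.mem_toFinset, Polynomial.mem_nthRoots hp.out.pos, hbp χ]⟩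
  have hf : Function.Injective f := by
    intro χ χ' h
    have hbb : χ.1 b = χ'.1 b := congrArg Subtype.val h
    refine Subtype.ext (AlgHom.ext fun c => ?_)
    rw [hsum c, map_sum, map_sum]
    refine Finset.sum_congr rfl fun j _ => ?_
    obtain ⟨m, hm⟩ : ∃ m : ℕ, p ∣ j + i * m := by
      have hi0 : (i : ZMod p) ≠ 0 := fun h => hi ((ZMod.natCast_eq_zero_iff i p).1 h)
      refine ⟨(-(j : ZMod p) / i).val, (ZMod.natCast_eq_zero_iff _ p).1 ?_⟩
      rw [Nat.cast_add, Nat.cast_mul, ZMod.natCast_zmod_val, mul_div_cancel₀ _ hi0, add_neg_cancel]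
    obtain ⟨r, hr⟩ := hm
    have hmem : n ^ j * (n ^ i) ^ m ∈ N₀ := by
      rw [← pow_mul, ← pow_add, hr, pow_mul]
      exact N₀.pow_mem hnp r
    have h1 := hext χ (pc j c * b ^ m) _ hmem (by simpa using (hpc j c).mul ((hpc i c₁).pow m)) χ'
    rw [map_mul, map_mul, map_pow, map_pow, hbb] at h1
    exact mul_right_cancel₀ (pow_ne_zero _ (hbne χ')) h1
  refine (Nat.card_le_card_of_injective f hf).trans ?_
  rw [Nat.card_eq_fintype_card, Fintype.card_coe]
  exact (Multiset.toFinset_card_le _).trans (Polynomial.card_nthRoots _ _)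

variable (hP : IsPGroup p P) (hcam : ∀ g : P, g ∉ Q → ∀ q ∈ Q, ∃ y : P, y * g * y⁻¹ = g * q)
  (hQ : (Nat.card Q : k) ≠ 0) (hQ1 : Q ≠ ⊥) (hQtop : Q ≠ ⊤)

include hP hcam hQ1 hQtop in
/-- The quotient by `Q` is not of order at most `p`. -/
theorem prime_lt_index : p < Q.index := by
  haveI := hP.isNilpotent
  by_contra h
  obtain ⟨x, hx⟩ : ∃ x : P, x ∉ Q := by
    by_contra hall
    exact hQtop (eq_top_iff.2 fun x _ => by_contra fun hx => hall ⟨x, hx⟩)
  have hi : Q.index = p := by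
    obtain ⟨n, hn⟩ := hP.index Q
    rcases n with _ | n
    · exact absurd (Subgroup.index_eq_one.1 hn) hQtop
    · refine le_antisymm (not_lt.1 h) ?_
      rw [hn]
      exact Nat.le_self_pow (by omega) p
  have h1 := card_cmod hcam hx
  obtain ⟨z, hz, hz1⟩ := (Subgroup.bot_or_exists_ne_one _).resolve_left
    (CfsgLib.PGroupBasic.inf_center_ne_bot Q hQ1)
  have hlt : Nat.card Q * p < Nat.card Q * Nat.card (Subgroup.centralizer ({x} : Set P)) := by
    refine Nat.mul_lt_mul_of_pos_left ?_ Nat.card_pos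
    set C := Subgroup.centralizer ({x} : Set P)
    have hzC : z ∈ C := Subgroup.mem_centralizer_singleton_iff.2 (Subgroup.mem_center_iff.1 hz.2 x).symm
    obtain ⟨c, hc⟩ := (IsPGroup.iff_card.1 (hP.to_subgroup C))
    rcases c with _ | _ | c
    · rw [pow_zero] at hc
      exact absurd (by simpa [Subgroup.card_eq_one.1 hc] using hzC) hz1
    · rw [pow_one] at hc
      have hsup : Subgroup.zpowers z = C := by
        refine Subgroup.eq_of_le_of_card_ge (Subgroup.zpowers_le.2 hzC) ?_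
        rw [hc, Nat.card_zpowers]
        obtain ⟨e, he⟩ := IsPGroup.iff_orderOf.1 hP z
        rw [he]
        refine Nat.le_self_pow ?_ p
        rintro rfl
        exact hz1 (orderOf_eq_one_iff.1 (by simpa using he))
      have hxC : x ∈ C := Subgroup.mem_centralizer_singleton_iff.2 rfl
      rw [← hsup] at hxC
      exact absurd ((Subgroup.zpowers_le.2 hz.1) hxC) hx
    · rw [hc]
      exact (pow_one p).symm.trans_lt (Nat.pow_lt_pow_right hp.out.one_lt (by omega))
  rw [← h1, ← hi, Subgroup.card_mul_index] at hlt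
  exact absurd (Subgroup.card_le_card_group _) (not_le.2 hlt)

include hP hcam hQ hQ1 hQtop in
/-- No orbit is free modulo `Q`. -/
theorem not_stabilizer_le : ∀ (n : ℕ) (N : Subgroup P) [N.Normal], N ≤ Q → Nat.card N = n →
    ∀ χ : Homs k (N.subgroupOf Q), ¬ MulAction.stabilizer P χ ≤ Q := by
  intro n
  induction n using Nat.strong_induction_on with
  | _ n ih => ?_
  intro N _ hNQ hcard χ hle
  haveI := hP.isNilpotent
  by_cases hN : N = ⊥
  · subst hN
    refine hQtop (eq_top_iff.2 fun x _ => hle ?_)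
    refine AlgHom.ext fun c => ?_
    rw [smul_apply]
    congr 1
    refine Subtype.ext (MonoidAlgebra.ext (Finsupp.ext fun q => ?_))
    rw [coeff_act]
    by_cases hq : q = 1
    · subst hq; rw [map_one]
    · rw [c.2.2 q (fun h => hq (Subtype.ext (by simpa [Subgroup.mem_subgroupOf] using h))),
        c.2.2 _ (fun h => hq ?_)]
      have h' : (MulAut.conjNormal x⁻¹).symm q = 1 :=
        Subtype.ext (by simpa [Subgroup.mem_subgroupOf] using h)
      exact (map_eq_one_iff _ (MulEquiv.injective _)).1 h'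
  obtain ⟨N₀, ⟨hN₀n, hN₀lt⟩, hmax⟩ :=
    Set.Finite.exists_maximal (s := {M : Subgroup P | M.Normal ∧ M < N}) (Set.toFinite _)
      ⟨⊥, inferInstance, bot_lt_iff_ne_bot.2 hN⟩
  haveI : N₀.Normal := hN₀n
  obtain ⟨m, hmN, hm0, hmc⟩ := CfsgLib.PGroupBasic.exists_central_mod N₀ N hN₀lt
  have hgen : N ≤ N₀ ⊔ Subgroup.zpowers m := by
    have hn : (N₀ ⊔ Subgroup.zpowers m).Normal := ⟨fun a ha g => by
      obtain ⟨u, hu, v, hv, rfl⟩ := Subgroup.mem_sup_of_normal_left.1 ha
      obtain ⟨i, rfl⟩ := hv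
      have e : g * (u * m ^ i) * g⁻¹ = (g * u * g⁻¹) * (g * m ^ i * g⁻¹) := by group
      rw [e]
      refine Subgroup.mul_mem _ (Subgroup.mem_sup_left (hN₀n.conj_mem u hu g)) ?_
      rw [← conj_zpow]
      refine Subgroup.zpow_mem _ ?_ i
      have e2 : g * m * g⁻¹ = (m * g * m⁻¹ * g⁻¹)⁻¹ * m := by group
      rw [e2]
      exact Subgroup.mul_mem _ (Subgroup.mem_sup_left (N₀.inv_mem (hmc g)))
        (Subgroup.mem_sup_right (Subgroup.mem_zpowers m))⟩
    by_contra hlt
    exact hm0 (hmax ⟨hn, lt_of_le_not_ge (sup_le hN₀lt.le (Subgroup.zpowers_le.2 hmN)) hlt⟩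
      le_sup_left (Subgroup.mem_sup_right (Subgroup.mem_zpowers m)))
  have hmp : m ^ p ∈ N₀ := by
    by_contra hmp
    have hmpc : ∀ g : P, m ^ p * g * (m ^ p)⁻¹ * g⁻¹ ∈ N₀ := by
      intro g
      rw [← QuotientGroup.eq_one_iff]
      have h : (m : P ⧸ N₀) * g = g * m := by
        have := (QuotientGroup.eq_one_iff (N := N₀) _).2 (hmc g)
        rw [QuotientGroup.mk_mul, QuotientGroup.mk_mul, QuotientGroup.mk_mul, QuotientGroup.mk_inv,
          QuotientGroup.mk_inv, mul_inv_eq_one, mul_inv_eq_iff_eq_mul] at this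
        exact this
      simp only [QuotientGroup.mk_mul, QuotientGroup.mk_inv, QuotientGroup.mk_pow]
      rw [(Commute.pow_left h p).eq, mul_inv_cancel_right, mul_inv_cancel]
    set M' := N₀ ⊔ Subgroup.zpowers (m ^ p)
    have hn : M'.Normal := ⟨fun a ha g => by
      obtain ⟨u, hu, v, hv, rfl⟩ := Subgroup.mem_sup_of_normal_left.1 ha
      obtain ⟨i, rfl⟩ := hv
      have e : g * (u * (m ^ p) ^ i) * g⁻¹ = (g * u * g⁻¹) * (g * (m ^ p) ^ i * g⁻¹) := by group
      rw [e]
      refine Subgroup.mul_mem _ (Subgroup.mem_sup_left (hN₀n.conj_mem u hu g)) ?_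
      rw [← conj_zpow]
      refine Subgroup.zpow_mem _ ?_ i
      have e2 : g * m ^ p * g⁻¹ = (m ^ p * g * (m ^ p)⁻¹ * g⁻¹)⁻¹ * m ^ p := by group
      rw [e2]
      exact Subgroup.mul_mem _ (Subgroup.mem_sup_left (N₀.inv_mem (hmpc g)))
        (Subgroup.mem_sup_right (Subgroup.mem_zpowers _))⟩
    have hM'N : M' ≤ N := sup_le hN₀lt.le (Subgroup.zpowers_le.2 (N.pow_mem hmN p))
    rcases eq_or_lt_of_le hM'N with h | h
    · -- `m` would be a power of `m ^ p` modulo `N₀`
      have hm : m ∈ M' := h.symm ▸ hmN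
      obtain ⟨u, hu, v, hv, huv⟩ := Subgroup.mem_sup_of_normal_left.1 hm
      obtain ⟨i, hi⟩ := hv
      have hq : (m : P ⧸ N₀) = ((m : P ⧸ N₀) ^ p) ^ i := by
        conv_lhs => rw [← huv, ← hi]
        simp only [QuotientGroup.mk_mul, (QuotientGroup.eq_one_iff u).2 hu, one_mul,
          QuotientGroup.mk_zpow, QuotientGroup.mk_pow]
      obtain ⟨e, he⟩ := IsPGroup.iff_orderOf.1 (hP.to_quotient N₀) (m : P ⧸ N₀)
      have h1 : (m : P ⧸ N₀) ^ ((p : ℤ) * i - 1) = 1 := by
        rw [zpow_sub, zpow_mul, zpow_natCast, ← hq, zpow_one, mul_inv_cancel]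
      have h2 := orderOf_dvd_iff_zpow_eq_one.2 h1
      rw [he] at h2
      rcases e with _ | e
      · exact hm0 ((QuotientGroup.eq_one_iff m).1 (orderOf_eq_one_iff.1 (by simpa using he)))
      have h3 : (p : ℤ) ∣ (p : ℤ) * i - 1 :=
        dvd_trans (Int.natCast_dvd_natCast.2 (dvd_pow_self p (by omega))) h2
      have h4 : (p : ℤ) ∣ 1 := by simpa using dvd_sub (dvd_mul_right (p : ℤ) i) h3
      exact hp.out.ne_one (Nat.dvd_one.1 (by exact_mod_cast h4))
    · exact hmp (hmax ⟨hn, h⟩ le_sup_left (Subgroup.mem_sup_right (Subgroup.mem_zpowers _)))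
  set ψ := res hN₀lt.le χ
  set S := MulAction.stabilizer P ψ
  have hext := card_ext_le (p := p) hN₀lt.le hmN hmp hm0 hgen
    (fun w => by
      have h := N₀.inv_mem (hmc w)
      have e : w * m * w⁻¹ * m⁻¹ = (m * w * m⁻¹ * w⁻¹)⁻¹ := by group
      rwa [e]) ψ
  haveI := finite_homs (k := k) (N := N.subgroupOf Q)
  have hrel : (MulAction.stabilizer P χ).relIndex S ≤ p := by
    refine le_trans ?_ hext
    rw [Subgroup.relIndex, Subgroup.index]
    let f : S ⧸ (MulAction.stabilizer P χ).subgroupOf S →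
        {χ' : Homs k (N.subgroupOf Q) // res hN₀lt.le χ' = ψ} := Quotient.lift
      (fun s : S => (⟨(s : P) • χ, by rw [res_smul]; exact s.2⟩ :
        {χ' : Homs k (N.subgroupOf Q) // res hN₀lt.le χ' = ψ})) fun a b hab => by
        refine Subtype.ext ?_
        have h : ((a⁻¹ * b : S) : P) • χ = χ := QuotientGroup.leftRel_apply.1 hab
        push_cast at h
        show (a : P) • χ = (b : P) • χ
        conv_lhs => rw [← h, ← mul_smul, mul_inv_cancel_left]
    refine Nat.card_le_card_of_injective f ?_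
    intro a b
    refine Quotient.inductionOn₂ a b fun a b h => Quotient.sound (QuotientGroup.leftRel_apply.2 ?_)
    have h' : (a : P) • χ = (b : P) • χ := congrArg Subtype.val h
    show ((a⁻¹ * b : S) : P) • χ = χ
    push_cast
    rw [mul_smul, ← h', inv_smul_smul]
  have hstab : MulAction.stabilizer P χ = Q := le_antisymm hle (le_stabilizer χ)
  rw [hstab] at hrel
  by_cases hS : S ≤ Q
  · exact ih (Nat.card N₀) (hcard ▸ Set.ncard_lt_ncard (SetLike.coe_ssubset_coe.2 hN₀lt)
      (Set.toFinite _)) N₀ (hN₀lt.le.trans hNQ) rfl ψ hS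
  obtain ⟨x, hxS, hxQ⟩ := SetLike.not_le_iff_exists.1 hS
  have hrelp : Q.relIndex S = p := by
    obtain ⟨e, he⟩ := (hP.to_subgroup S).index (Q.subgroupOf S)
    rcases e with _ | e
    · exact absurd (Subgroup.relIndex_eq_one.1 (by simpa [Subgroup.relIndex] using he) hxS) hxQ
    · refine le_antisymm hrel ?_
      rw [Subgroup.relIndex, he]
      exact Nat.le_self_pow (by omega) p
  have hxp : x ^ p ∈ Q := by
    have h := Subgroup.pow_index_mem (H := Q.subgroupOf S) ⟨x, hxS⟩
    rwa [show (Q.subgroupOf S).index = p from hrelp, Subgroup.mem_subgroupOf] at h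
  have hne : ψ ≠ aug N₀ k Q := by
    intro he
    have htop : S = ⊤ := eq_top_iff.2 fun y _ => by
      show y • ψ = ψ
      rw [he, smul_aug]
    have h := prime_lt_index hP hcam hQ1 hQtop
    rw [← Subgroup.relIndex_top_right, ← htop, hrelp] at h
    exact lt_irrefl _ h
  refine step (p := p) hcam hQ hxQ hxp (Commute.refl x) hxS hne ?_
  refine le_trans (Subgroup.card_le_of_le inf_le_left) (Subgroup.card_le_of_le ?_)
  have hQS : Q ≤ S := le_stabilizer ψ
  have hle' : Q ⊔ Subgroup.zpowers x ≤ S := sup_le hQS (Subgroup.zpowers_le.2 hxS)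
  show S ≤ Q ⊔ Subgroup.zpowers x
  have h1 := Subgroup.relIndex_mul_relIndex Q (Q ⊔ Subgroup.zpowers x) S le_sup_left hle'
  rw [hrelp] at h1
  rcases hp.out.eq_one_or_self_of_dvd _ (Dvd.intro _ h1) with h2 | h2
  · exact absurd (Subgroup.relIndex_eq_one.1 h2 (Subgroup.mem_sup_right (Subgroup.mem_zpowers x))) hxQ
  · rw [h2] at h1
    exact Subgroup.relIndex_eq_one.1
      (Nat.eq_of_mul_eq_mul_left hp.out.pos (h1.trans (mul_one p).symm))

include hP hcam hQ hQ1 hQtop in
/-- The stabiliser of a non-trivial homomorphism is not cyclic modulo `Q`. -/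
theorem not_le_sup_zpowers {χ : Homs k (Q.subgroupOf Q)} (hχ : χ ≠ aug Q k Q) (t : P)
    (ht : t ∈ MulAction.stabilizer P χ) :
    ¬ MulAction.stabilizer P χ ≤ Q ⊔ Subgroup.zpowers t := by
  intro hle
  have hnot := not_stabilizer_le hP hcam hQ hQ1 hQtop _ Q le_rfl rfl χ
  have htQ : t ∉ Q := fun h => hnot (hle.trans (sup_le le_rfl (Subgroup.zpowers_le.2 h)))
  obtain ⟨e, he⟩ := IsPGroup.iff_orderOf.1 (hP.to_quotient Q) (t : P ⧸ Q)
  rcases e with _ | e
  · exact htQ ((QuotientGroup.eq_one_iff t).1 (orderOf_eq_one_iff.1 (by simpa using he)))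
  refine step (p := p) hcam hQ (x := t ^ p ^ e) (t := t) ?_ ?_ (Commute.pow_right rfl _)
    (Subgroup.pow_mem _ ht _) hχ (Subgroup.card_le_of_le (inf_le_left.trans hle))
  · intro h
    have := orderOf_dvd_of_pow_eq_one
      ((QuotientGroup.mk_pow Q t _).symm.trans ((QuotientGroup.eq_one_iff _).2 h))
    rw [he] at this
    exact absurd (Nat.le_of_dvd (pow_pos hp.out.pos _) this)
      (not_le.2 (Nat.pow_lt_pow_right hp.out.one_lt (by omega)))
  · rw [← pow_mul, ← pow_succ, ← QuotientGroup.eq_one_iff, QuotientGroup.mk_pow, ← he,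
      pow_orderOf_eq_one]

end CfsgLib.CaminaPair.Stab
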