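import Cfsg.Agent.CaminaPair.FreeOrbit
import Cfsg.Agent.CaminaPair.Descent

/-!
No module of a Camina pair `(P, Q)` of `p`-groups is fixed-point-free outside `Q` while a central
element of `Q` acts non-trivially (for `p = 2`: a central product of squares of `Q`).
-/

set_option autoImplicit false
set_option linter.style.haveILetI false
set_option linter.unusedSectionVars false

namespace CfsgLib.CaminaPair.Key

open MonoidAlgebra

variable {P : Type*} [Group P] [Finite P] {Q : Subgroup P} [Q.Normal] {k : Type*} [Field k]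
  [IsAlgClosed k] {V : Type*} [AddCommGroup V] [Module k V] [FiniteDimensional k V]
  (ρ : Representation k P V) {p : ℕ} [hp : Fact p.Prime]

/-- The `p`th power of an element outside `Q` has no fixed vector. -/
theorem pow_fixed_point_free (hcam : ∀ g : P, g ∉ Q → ∀ q ∈ Q, ∃ y : P, y * g * y⁻¹ = g * q)
    (hp0 : (p : k) ≠ 0) (hfpf : ∀ h : P, h ∉ Q → ∀ v : V, ρ h v = v → v = 0) {z : P} (hz : z ∈ Q)
    {ω : k} (hω : ω ≠ 1) (hωp : ω ^ p = 1) (hzV : ∀ v : V, ρ z v = ω • v) :
    ∀ h : P, h ∉ Q → ∀ v : V, ρ (h ^ p) v = v → v = 0 := by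
  classical
  haveI : Fintype P := Fintype.ofFinite P
  intro h hh v hv
  haveI : NeZero p := ⟨hp.out.ne_zero⟩
  have hprim : IsPrimitiveRoot ω p :=
    IsPrimitiveRoot.iff_orderOf.2 (orderOf_eq_prime hωp hω)
  have hω0 : ω ≠ 0 := hprim.ne_zero hp.out.ne_zero
  obtain ⟨x, hx⟩ := hcam h hh z hz
  -- no eigenvalue of order dividing `p`
  have heig : ∀ (j : ℕ) (u : V), ρ h u = ω ^ j • u → u = 0 := by
    intro j
    induction j with
    | zero => intro u hu; exact hfpf h hh u (by simpa using hu)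
    | succ j ih =>
      intro u hu
      have e1 : x * h = h * z * x := by rw [← hx]; group
      have h1 : ρ h (ρ x u) = ω ^ j • ρ x u := by
        have h2 : ρ (x * h) u = ρ (h * z * x) u := by rw [e1]
        simp only [Descent.rho_mul, hu, map_smul, hzV] at h2
        have h3 := congrArg (fun w => ω⁻¹ • w) h2
        simp only [smul_smul, inv_mul_cancel₀ hω0, one_smul, pow_succ'] at h3
        rw [← mul_assoc, inv_mul_cancel₀ hω0, one_mul] at h3
        exact h3.symm
      exact Descent.rho_eq_zero (ih _ h1)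
  by_contra hv0
  set e : ℕ → V := fun j => ∑ i ∈ Finset.range p, (ω⁻¹ ^ j) ^ i • ρ (h ^ i) v with he
  have hej : ∀ j, ρ h (e j) = ω ^ j • e j := by
    intro j
    have hrot : ∑ i ∈ Finset.range p, (ω⁻¹ ^ j) ^ (i + 1) • ρ (h ^ (i + 1)) v = e j := by
      have h1 := Finset.sum_range_succ' (fun i => (ω⁻¹ ^ j) ^ i • ρ (h ^ i) v) p
      have h2 := Finset.sum_range_succ (fun i => (ω⁻¹ ^ j) ^ i • ρ (h ^ i) v) p
      rw [h1] at h2
      have h3 : (ω⁻¹ ^ j) ^ p = 1 := by rw [← pow_mul, mul_comm, pow_mul, inv_pow, hωp, inv_one, one_pow]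
      simp only [h3, one_smul, hv, pow_zero, Descent.rho_one] at h2
      exact add_right_cancel h2
    have h4 : ω ^ j * ω⁻¹ ^ j = 1 := by rw [← mul_pow, mul_inv_cancel₀ hω0, one_pow]
    conv_rhs => rw [← hrot]
    rw [he, map_sum, Finset.smul_sum]
    refine Finset.sum_congr rfl fun i _ => ?_
    rw [map_smul, smul_smul, pow_succ, ← mul_assoc, mul_comm (ω ^ j), mul_assoc, h4, mul_one,
      pow_succ' h, Descent.rho_mul]
  have hsum : ∑ j ∈ Finset.range p, e j = (p : k) • v := by
    simp only [he]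
    rw [Finset.sum_comm, Finset.sum_eq_single 0]
    · simp [Descent.rho_one, ← Nat.cast_smul_eq_nsmul k]
    · intro i hi hi0
      rw [← Finset.sum_smul]
      have h1 : ∀ j, (ω⁻¹ ^ j) ^ i = (ω⁻¹ ^ i) ^ j := fun j => by rw [← pow_mul, ← pow_mul, mul_comm]
      simp only [h1]
      have hne : ω⁻¹ ^ i ≠ 1 :=
        hprim.inv.pow_ne_one_of_pos_of_lt hi0 (Finset.mem_range.1 hi)
      have h5 := geom_sum_mul (ω⁻¹ ^ i) p
      rw [← pow_mul, mul_comm i p, pow_mul, inv_pow ω p, hωp, inv_one, one_pow, sub_self,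
        mul_eq_zero, sub_eq_zero] at h5
      rw [h5.resolve_right hne, zero_smul]
    · intro h0
      exact absurd (Finset.mem_range.2 hp.out.pos) h0
  refine hv0 ((smul_eq_zero.1 (?_ : (p : k) • v = 0)).resolve_left hp0)
  rw [← hsum]
  exact Finset.sum_eq_zero fun j _ => heig j _ (hej j)

/-- The main theorem. -/
theorem key (hP : IsPGroup p P) (hcam : ∀ g : P, g ∉ Q → ∀ q ∈ Q, ∃ y : P, y * g * y⁻¹ = g * q)
    (hQ1 : Q ≠ ⊥) (hQtop : Q ≠ ⊤) (hPk : (Nat.card P : k) ≠ 0) [Nontrivial V]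
    (hfpf : ∀ h : P, h ∉ Q → ∀ v : V, ρ h v = v → v = 0) {z : P} (hz : z ∈ Q)
    (hz2 : p = 2 → z ∈ Subgroup.closure {x : P | ∃ q ∈ Q, x = q * q})
    {ω : k} (hω : ω ≠ 1) (hωp : ω ^ p = 1) (hzV : ∀ v : V, ρ z v = ω • v) : False := by
  classical
  haveI : Fintype P := Fintype.ofFinite P
  haveI : Fintype Q := Fintype.ofFinite Q
  haveI hQQ : (Q.subgroupOf Q).Normal := inferInstance
  have hp0 : (p : k) ≠ 0 := by
    obtain ⟨m, hm⟩ := hP.exists_card_eq
    have hm0 : m ≠ 0 := by
      rintro rfl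
      haveI : Subsingleton P := (Nat.card_eq_one_iff_unique.1 (by simpa using hm)).1
      exact hQtop (eq_top_iff.2 fun x _ => by rw [Subsingleton.elim x 1]; exact Q.one_mem)
    intro h; apply hPk
    rw [hm, Nat.cast_pow, h, zero_pow hm0]
  have hQk : (Nat.card Q : k) ≠ 0 := by
    intro h0
    obtain ⟨r, hr⟩ := Subgroup.card_subgroup_dvd_card Q
    apply hPk
    rw [hr, Nat.cast_mul, h0, zero_mul]
  have hF := pow_fixed_point_free ρ hcam hp0 hfpf hz hω hωp hzV
  -- a minimal submodule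
  obtain ⟨W, ⟨hW0, hWi⟩, hWmin⟩ := IsArtinian.set_has_minimal
    {U : Submodule k V | U ≠ ⊥ ∧ ∀ d ∈ Q, ∀ u ∈ U, ρ d u ∈ U}
    ⟨⊤, top_ne_bot, fun _ _ _ _ => Submodule.mem_top⟩
  have hW : Descent.IsIrr ρ Q W := ⟨hW0, hWi, fun U hUW hU0 hUi =>
    (eq_or_lt_of_le hUW).resolve_right (hWmin U ⟨hU0, hUi⟩)⟩
  obtain ⟨w₀, hw₀, hw₀0⟩ := hW.exists_ne
  -- functions and elements of the class algebra
  let fn : ClassAlgebra.classAlg k (Q.subgroupOf Q) → P → k := fun c x =>
    if h : x ∈ Q then c.1.coeff ⟨x, h⟩ else 0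
  have hfn : ∀ c, Descent.IsCls Q (fn c) := by
    intro c
    refine ⟨fun x hx => dif_neg hx, fun d hd x => ?_⟩
    simp only [fn]
    by_cases hx : x ∈ Q
    · rw [dif_pos hx, dif_pos (Q.mul_mem (Q.mul_mem hd hx) (Q.inv_mem hd))]
      exact c.2.1 ⟨d, hd⟩ ⟨x, hx⟩
    · rw [dif_neg hx, dif_neg fun h => hx ?_]
      simpa [mul_assoc] using Q.mul_mem (Q.mul_mem (Q.inv_mem hd) h) hd
  let Φ : MonoidAlgebra k Q →ₐ[k] Module.End k V :=
    MonoidAlgebra.lift k (Module.End k V) Q (ρ.comp Q.subtype)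
  have hΦ : ∀ c v, Φ c.1 v = Descent.op ρ (fn c) v := by
    intro c v
    rw [Descent.op_apply, MonoidAlgebra.lift_apply, Finsupp.sum_fintype _ _ (by simp),
      LinearMap.sum_apply]
    rw [← Finset.sum_filter_add_sum_filter_not Finset.univ (fun x : P => x ∈ Q),
      Finset.sum_eq_zero (s := Finset.univ.filter fun x : P => ¬ x ∈ Q)
        (fun x hx => by simp [fn, (Finset.mem_filter.1 hx).2]), add_zero,
      ← Finset.sum_subtype (Finset.univ.filter fun x : P => x ∈ Q) (p := fun x => x ∈ Q) (by simp)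
        (f := fun x => fn c x • ρ x v) |>.symm]
    refine Finset.sum_congr rfl fun q _ => ?_
    simp [fn]
  choose b hb using fun c => hW.exists_scalar (hfn c)
  have hb' : ∀ c w, w ∈ W → Φ c.1 w = b c • w := fun c w hw => by rw [hΦ]; exact hb c w hw
  let χ : ClassAlgebra.Homs k (Q.subgroupOf Q) :=
    { toFun := b
      map_one' := smul_left_injective k hw₀0 (show b 1 • w₀ = (1 : k) • w₀ by
        rw [← hb' 1 w₀ hw₀, Subalgebra.coe_one, map_one, one_smul]; rfl)
      map_mul' := fun c d => smul_left_injective k hw₀0 (show b (c * d) • w₀ = (b c * b d) • w₀ by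
        rw [← hb' _ w₀ hw₀, Subalgebra.coe_mul, map_mul, Module.End.mul_apply, hb' d w₀ hw₀,
          map_smul, hb' c w₀ hw₀, smul_smul, mul_comm])
      map_zero' := smul_left_injective k hw₀0 (show b 0 • w₀ = (0 : k) • w₀ by
        rw [← hb' _ w₀ hw₀, ZeroMemClass.coe_zero, map_zero, LinearMap.zero_apply, zero_smul])
      map_add' := fun c d => smul_left_injective k hw₀0 (show b (c + d) • w₀ = (b c + b d) • w₀ by
        rw [← hb' _ w₀ hw₀, Subalgebra.coe_add, map_add, LinearMap.add_apply, hb' d w₀ hw₀,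
          hb' c w₀ hw₀, add_smul])
      commutes' := fun r => smul_left_injective k hw₀0 (show b _ • w₀ = algebraMap k k r • w₀ by
        rw [← hb' _ w₀ hw₀, Subalgebra.coe_algebraMap, AlgHom.commutes,
          Module.algebraMap_end_apply, Algebra.algebraMap_self, RingHom.id_apply]) }
  have hmk : ∀ f : P → k, Descent.IsCls Q f → ∃ c, fn c = f := by
    intro f hf
    refine ⟨⟨MonoidAlgebra.ofCoeff (Finsupp.equivFunOnFinite.symm fun q : Q => f q),
      fun q r => ?_, fun q hq => absurd (show q ∈ Q.subgroupOf Q from q.2) hq⟩, funext fun x => ?_⟩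
    · simp only [MonoidAlgebra.coeff_ofCoeff, Finsupp.coe_equivFunOnFinite_symm]
      push_cast
      exact hf.2 q q.2 r
    · simp only [fn]
      by_cases hx : x ∈ Q
      · rw [dif_pos hx]; simp
      · rw [dif_neg hx, hf.1 x hx]
  set H := MulAction.stabilizer P χ
  have hQH : Q ≤ H := Stab.le_stabilizer χ
  have hinf : H ⊓ Q = Q := inf_eq_right.2 hQH
  have hinv : Descent.Inv ρ H (H ⊓ Q) W := by
    rw [hinf]
    intro f hf a ha h hh w hw
    obtain ⟨c, rfl⟩ := hmk f hf
    have hca : b c = a := smul_left_injective k hw₀0 ((hb c w₀ hw₀).symm.trans (ha w₀ hw₀))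
    have h1 : b (Stab.act h⁻¹ c) = a := hca ▸ DFunLike.congr_fun (show h • χ = χ from hh) c
    have h2 := hb (Stab.act h⁻¹ c) w hw
    have h3 : fn (Stab.act h⁻¹ c) = fun x => fn c (h⁻¹⁻¹ * x * h⁻¹) := by
      funext x
      simp only [fn]
      by_cases hx : x ∈ Q
      · rw [dif_pos hx, dif_pos (by
          simpa using Subgroup.Normal.conj_mem inferInstance _ hx h), Stab.coeff_act]
        congr 1
        exact Subtype.ext (by simp [MulAut.conjNormal_symm_apply])
      · rw [dif_neg hx, dif_neg fun h' => hx ?_]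
        have h4 := Subgroup.Normal.conj_mem inferInstance _ h' h⁻¹
        simpa [mul_assoc] using h4
    rw [h3, Descent.op_conj, inv_inv, h1] at h2
    have h4 := congrArg (ρ h) h2
    rwa [Descent.rho_inv_self, map_smul] at h4
  -- the homomorphism is not trivial
  have hχ : χ ≠ Stab.aug Q k Q := by
    intro he
    have hf : Descent.IsCls Q (Descent.avg Q (Pi.single z (1 : k))) :=
      Descent.isCls_avg fun x hx => by rw [Pi.single_eq_of_ne]; rintro rfl; exact hx hz
    obtain ⟨c, hc⟩ := hmk _ hf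
    have h1 : b c = (Fintype.card Q : k) * ω := by
      refine smul_left_injective k hw₀0 ?_
      show b c • w₀ = _ • w₀
      rw [← hb c w₀ hw₀, hc, Descent.op_avg]
      simp [Descent.op_single, hzV, Descent.rho_inv_self, ← Nat.cast_smul_eq_nsmul k, smul_smul]
    have h2 : Stab.aug Q k Q c = (Fintype.card Q : k) := by
      show MonoidAlgebra.lift k k Q 1 c.1 = _
      rw [MonoidAlgebra.lift_apply, Finsupp.sum_fintype _ _ (by simp)]
      have h3 : ∀ q : Q, c.1.coeff q = Descent.avg Q (Pi.single z (1 : k)) q := fun q => by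
        rw [← hc]; simp [fn]
      simp only [h3, MonoidHom.one_apply, smul_eq_mul, mul_one, Descent.avg_apply]
      rw [Finset.sum_comm]
      have h4 : ∀ e : Q, ∑ q : Q, (Pi.single z (1 : k) : P → k) ((e : P)⁻¹ * q * e) = 1 := by
        intro e
        rw [Finset.sum_eq_single (⟨e * z * (e : P)⁻¹, Q.mul_mem (Q.mul_mem e.2 hz) (Q.inv_mem e.2)⟩ : Q)]
        · simp [mul_assoc]
        · intro q _ hq
          rw [Pi.single_eq_of_ne]
          intro h5
          refine hq (Subtype.ext ?_)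
          show (q : P) = e * z * (e : P)⁻¹
          rw [← h5]; group
        · simp
      simp [h4]
    have h5 : b c = Stab.aug Q k Q c := DFunLike.congr_fun he c
    rw [h1, h2, Fintype.card_eq_nat_card, mul_eq_left₀ hQk] at h5
    exact hω h5
  obtain ⟨hp2, hsign⟩ := Descent.descent (ρ := ρ) hP hF hPk _ H W rfl
    (fun t ht => Stab.not_le_sup_zpowers hP hcam hQk hQ1 hQtop hχ t ht)
    (hinf.symm ▸ hW) hinv
  rw [hinf] at hsign
  let K : Subgroup P :=
    { carrier := {g | ∀ w ∈ W, ρ g w = w}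
      one_mem' := fun w _ => Descent.rho_one w
      mul_mem' := fun {g g'} hg hg' w hw => by rw [Descent.rho_mul, hg' w hw, hg w hw]
      inv_mem' := fun {g} hg w hw => by
        conv_lhs => rw [← hg w hw]
        rw [Descent.inv_rho_self] }
  have hK : Subgroup.closure {x : P | ∃ q ∈ Q, x = q * q} ≤ K := by
    rw [Subgroup.closure_le]
    rintro _ ⟨q, hq, rfl⟩ w hw
    obtain ⟨ε, hε, hεw⟩ := hsign q hq
    rw [Descent.rho_mul, hεw w hw, map_smul, hεw w hw, smul_smul, hε, one_smul]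
  have h1 := hK (hz2 hp2) w₀ hw₀
  rw [hzV] at h1
  exact hω (smul_left_injective k hw₀0 (h1.trans (one_smul k w₀).symm))

end CfsgLib.CaminaPair.Key
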