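import Cfsg.Agent.CaminaPair.Congr
import Cfsg.Agent.S4142
import Cfsg.Agent.S0033
import Cfsg.Agent.Solvable.FpfComplement
import Cfsg.Agent.Kazarin.Main
import Cfsg.Agent.Solvable.PGroupBasic
import Mathlib.Algebra.Group.Commutator
import Mathlib.GroupTheory.Nilpotent
import Mathlib.GroupTheory.SpecificGroups.Quaternion

/-!
Camina's theorem: a Camina pair `(G, N)` is a Frobenius group with kernel `N`, or one of `N`,
`G/N` has prime power order.

If `p` divides `|N|` and `|G : N|` and `N` is nilpotent with a further prime `q`, the Sylow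
`p`-subgroup of `G/N` acts fixed-point-freely on `O_q(N)`, so it is cyclic or quaternion, and some
`p`-element has a centraliser larger than that of its image.
-/

set_option autoImplicit false
set_option linter.style.haveILetI false
set_option linter.unusedSectionVars false

namespace CfsgLib.CaminaPair

open scoped commutatorElement

open Subgroup

universe u

variable {G : Type u} [Group G] [Finite G] {N : Subgroup G} [hN : N.Normal]

theorem pow_orderOf_eq_one_of_commute
    (hcam : ∀ g : G, g ∉ N → ∀ n ∈ N, ∃ x : G, x * g * x⁻¹ = g * n)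
    {g n : G} (hg : g ∉ N) (hn : n ∈ N) (hc : Commute g n) : n ^ orderOf g = 1 := by
  obtain ⟨x, hx⟩ := hcam g hg n hn
  have h : (g * n) ^ orderOf g = 1 := by
    rw [← hx, conj_pow, pow_orderOf_eq_one, mul_one, mul_inv_cancel]
  rwa [hc.mul_pow, pow_orderOf_eq_one, one_mul] at h

/-- The coprime case is a Frobenius group. -/
theorem centralizer_le
    (hcam : ∀ g : G, g ∉ N → ∀ n ∈ N, ∃ x : G, x * g * x⁻¹ = g * n)
    (hcop : (Nat.card N).Coprime N.index) {x : G} (hx : x ∈ N) (hx1 : x ≠ 1) :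
    centralizer ({x} : Set G) ≤ N := by
  intro y hy
  by_contra hyN
  have hc : Commute y x := mem_centralizer_singleton_iff.1 hy
  set z := y ^ Nat.card N
  have hzN : z ∉ N := by
    intro hz
    refine hyN ((QuotientGroup.eq_one_iff y).1 ?_)
    have h1 : ((y : G ⧸ N)) ^ Nat.card N = 1 := by
      rw [← QuotientGroup.mk_pow]; exact (QuotientGroup.eq_one_iff _).2 hz
    have h2 : ((y : G ⧸ N)) ^ N.index = 1 := by
      rw [index_eq_card]; exact pow_card_eq_one'
    have := pow_gcd_eq_one.2 ⟨h1, h2⟩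
    rwa [hcop, pow_one] at this
  have h1 := pow_orderOf_eq_one_of_commute hcam hzN hx (hc.pow_left _)
  have h2 : orderOf z ∣ N.index := by
    refine orderOf_dvd_of_pow_eq_one ?_
    rw [← pow_mul, N.card_mul_index, pow_card_eq_one']
  have h3 : orderOf x ∣ Nat.card N := by
    rw [← orderOf_mk x hx]; exact orderOf_dvd_natCard _
  exact hx1 (orderOf_eq_one_iff.1
    (Nat.eq_one_of_dvd_coprimes hcop h3 ((orderOf_dvd_of_pow_eq_one h1).trans h2)))

/-- In a cyclic or quaternion Sylow subgroup some element has a small centraliser. -/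
theorem exists_small_centralizer {H : Type u} [Group H] [Finite H] {p : ℕ} [Fact p.Prime]
    (R : Sylow p H) (hR1 : (R : Subgroup H) ≠ ⊥)
    (hR : IsCyclic R ∨ (p = 2 ∧ ∃ n : ℕ, 1 ≤ n ∧ Nonempty (R ≃* QuaternionGroup (2 ^ n)))) :
    ∃ a ∈ (R : Subgroup H), a ≠ 1 ∧
      ¬ p * orderOf a ∣ Nat.card (centralizer ({a} : Set H)) := by
  have hp : p.Prime := Fact.out
  have hmax : ∀ d : ℕ, p * Nat.card R ∣ d → ¬ d ∣ Nat.card H := by
    intro d hd hdH
    obtain ⟨k, hk⟩ := hd.trans hdH
    apply R.not_dvd_index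
    refine ⟨k, Nat.eq_of_mul_eq_mul_left (Nat.card_pos (α := R)) ?_⟩
    rw [(R : Subgroup H).card_mul_index, hk]
    ring
  rcases hR with hcyc | ⟨rfl, n, hn, ⟨e⟩⟩
  · obtain ⟨⟨a, ha⟩, hgen⟩ := hcyc.exists_generator
    have ho : orderOf a = Nat.card R := by
      rw [← orderOf_mk a ha]
      exact orderOf_eq_card_of_forall_mem_zpowers hgen
    refine ⟨a, ha, fun h1 => hR1 ?_, fun hd => hmax _ (ho ▸ dvd_refl _) (hd.trans (card_subgroup_dvd_card _))⟩
    rw [← Subgroup.card_eq_one, ← ho, h1, orderOf_one]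
  · haveI : NeZero (2 ^ n) := ⟨(pow_pos two_pos n).ne'⟩
    set a₀ := e.symm (QuaternionGroup.a 1)
    have ho : orderOf (a₀ : H) = 2 * 2 ^ n := by
      rw [Subgroup.orderOf_coe, MulEquiv.orderOf_eq, QuaternionGroup.orderOf_a_one]
    have hcR : Nat.card R = 4 * 2 ^ n := by
      rw [Nat.card_congr e.toEquiv, Nat.card_eq_fintype_card, QuaternionGroup.card]
    refine ⟨a₀, a₀.2, fun h1 => ?_, fun hd => ?_⟩
    · rw [h1, orderOf_one] at ho
      have : 0 < 2 ^ n := pow_pos two_pos n
      omega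
    rw [ho] at hd
    set C := centralizer ({(a₀ : H)} : Set H)
    obtain ⟨T, hT⟩ := Sylow.exists_subgroup_card_pow_prime 2 (G := C) (n := n + 2) (by
      refine dvd_trans (dvd_of_eq ?_) hd
      ring)
    set T' : Subgroup H := T.map C.subtype
    have hT'c : Nat.card T' = 2 ^ (n + 2) := by
      rw [Nat.card_congr (T.equivMapOfInjective _ C.subtype_injective).toEquiv.symm, hT]
    have hcRT : Nat.card R = Nat.card T' := by rw [hcR, hT'c]; ring
    have hT'p : IsPGroup 2 T' := IsPGroup.of_card hT'c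
    obtain ⟨S, hS⟩ := hT'p.exists_le_sylow
    have hST : T' = (S : Subgroup H) := by
      refine eq_of_le_of_card_ge hS ?_
      rw [← hcRT, S.card_eq_multiplicity, R.card_eq_multiplicity]
    -- `a₀` is in the centraliser of `T'`
    have ha0 : ∀ t ∈ T', (a₀ : H) * t = t * a₀ := by
      rintro t ⟨c, hc, rfl⟩
      exact (mem_centralizer_singleton_iff.1 c.2).symm
    have haT : (a₀ : H) ∈ T' := by
      by_contra hnot
      have hp2 : IsPGroup 2 ↥(T' ⊔ zpowers (a₀ : H)) := by
        refine IsPGroup.to_sup_of_normal_right' hT'p (R.2.to_le (zpowers_le.2 a₀.2)) ?_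
        intro t ht
        rw [mem_normalizer_iff]
        intro y
        constructor
        · rintro ⟨k, rfl⟩
          refine ⟨k, ?_⟩
          have := ((show Commute (a₀ : H) t from ha0 t ht).zpow_left k)
          show (a₀ : H) ^ k = t * (a₀ : H) ^ k * t⁻¹
          rw [← this.eq, mul_inv_cancel_right]
        · rintro ⟨k, hk⟩
          refine ⟨k, ?_⟩
          have := ((show Commute (a₀ : H) t from ha0 t ht).zpow_left k)
          show (a₀ : H) ^ k = y
          have h2 : (a₀ : H) ^ k = t⁻¹ * (a₀ : H) ^ k * t := by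
            rw [mul_assoc, this.eq, inv_mul_cancel_left]
          rw [h2, show (a₀ : H) ^ k = t * y * t⁻¹ from hk]
          group
      obtain ⟨S', hS'⟩ := hp2.exists_le_sylow
      have h1 : T' = (S' : Subgroup H) := by
        refine eq_of_le_of_card_ge (le_sup_left.trans hS') ?_
        rw [← hcRT, S'.card_eq_multiplicity, R.card_eq_multiplicity]
      exact hnot (h1 ▸ hS' (mem_sup_right (mem_zpowers _)))
    -- so a quaternion group has a central element of order `2 ^ (n + 1)`
    let f : QuaternionGroup (2 ^ n) ≃* T' :=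
      (e.symm.trans (R.equiv S)).trans (MulEquiv.subgroupCongr hST).symm
    set c := f.symm ⟨(a₀ : H), haT⟩
    have hco : orderOf c = 2 * 2 ^ n := by rw [MulEquiv.orderOf_eq, orderOf_mk, ho]
    have hcen : ∀ y : QuaternionGroup (2 ^ n), c * y = y * c := by
      intro y
      apply f.injective
      rw [map_mul, map_mul, f.apply_symm_apply]
      exact Subtype.ext (ha0 _ (f y).2)
    have h2n : 2 ≤ 2 ^ n := le_self_pow₀ one_le_two (by omega)
    rcases hci : c with i | i
    · -- commuting with `xa 0` forces `2 i = 0`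
      have h1 := hcen (QuaternionGroup.xa 0)
      rw [hci, QuaternionGroup.a_mul_xa, QuaternionGroup.xa_mul_a] at h1
      have h2 : i + i = 0 := by
        have h3 := QuaternionGroup.xa.inj h1
        linear_combination -h3
      have h4 : c ^ 2 = 1 := by
        rw [hci, pow_two, QuaternionGroup.a_mul_a, h2, ← QuaternionGroup.one_def]
      have := Nat.le_of_dvd two_pos (orderOf_dvd_of_pow_eq_one h4)
      omega
    · have h1 := hcen (QuaternionGroup.a 1)
      rw [hci, QuaternionGroup.a_mul_xa, QuaternionGroup.xa_mul_a] at h1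
      have h3 := QuaternionGroup.xa.inj h1
      have h4 : ((2 : ℕ) : ZMod (2 * 2 ^ n)) = 0 := by
        push_cast
        linear_combination h3
      rw [ZMod.natCast_eq_zero_iff] at h4
      have := Nat.le_of_dvd two_pos h4
      omega

/-- A prime `p` dividing `|N|` and `|G : N|` is the only prime of a nilpotent `N`. -/
theorem false_of_nilpotent
    (hcam : ∀ g : G, g ∉ N → ∀ n ∈ N, ∃ x : G, x * g * x⁻¹ = g * n) [hnil : Group.IsNilpotent N]
    {p q : ℕ} [hp : Fact p.Prime] [hq : Fact q.Prime] (hpi : p ∣ N.index) (hpN : p ∣ Nat.card N)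
    (hqp : q ≠ p) (hqN : q ∣ Nat.card N) : False := by
  classical
  obtain ⟨P⟩ : Nonempty (Sylow p G) := inferInstance
  -- the `q`-part of `N`
  obtain ⟨Q₀⟩ : Nonempty (Sylow q N) := inferInstance
  haveI hQ0n : (Q₀ : Subgroup N).Normal := inferInstance
  haveI := Q₀.characteristic_of_normal hQ0n
  set Q : Subgroup G := (Q₀ : Subgroup N).map N.subtype
  haveI : Q.Normal := inferInstance
  have hQN : Q ≤ N := map_subtype_le _
  haveI : Nontrivial Q := by
    rw [nontrivial_iff_ne_bot]
    intro h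
    rw [map_eq_bot_iff_of_injective _ N.subtype_injective] at h
    have h2 := Q₀.not_dvd_index
    rw [h, index_bot] at h2
    exact h2 hqN
  have hQq : IsPGroup q Q := Q₀.2.map _
  have hcop : ∀ (x : G), x ∈ Q → (∃ k, x ^ p ^ k = 1) → x = 1 := by
    rintro x hx ⟨k, hk⟩
    obtain ⟨j, hj⟩ := hQq ⟨x, hx⟩
    have hj' : x ^ q ^ j = 1 := by simpa using congrArg Subtype.val hj
    exact orderOf_eq_one_iff.1 (Nat.eq_one_of_dvd_coprimes
      (Nat.Coprime.pow j k ((Nat.coprime_primes hq.out hp.out).2 hqp))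
      (orderOf_dvd_of_pow_eq_one hj') (orderOf_dvd_of_pow_eq_one hk))
  -- `P ∩ N` centralises `Q`
  obtain ⟨R₀, hR₀⟩ := (P.2.to_le (inf_le_left : (P : Subgroup G) ⊓ N ≤ P)
    |>.comap_of_injective N.subtype N.subtype_injective).exists_le_sylow
  haveI hR0n : (R₀ : Subgroup N).Normal := inferInstance
  have hdisj : Disjoint (R₀ : Subgroup N) (Q₀ : Subgroup N) :=
    IsPGroup.disjoint_of_ne p q (Ne.symm hqp) _ _ R₀.2 Q₀.2
  have hPQ : ∀ t ∈ (P : Subgroup G), t ∈ N → ∀ x ∈ Q, Commute t x := by
    rintro t htP htN _ ⟨x, hx, rfl⟩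
    have htR : (⟨t, htN⟩ : N) ∈ (R₀ : Subgroup N) := hR₀ ⟨htP, htN⟩
    exact congrArg N.subtype
      (Subgroup.commute_of_normal_of_disjoint _ _ hR0n hQ0n hdisj _ _ htR hx).eq
  -- elements outside `N` act fixed-point-freely on `Q`
  have hfpf : ∀ t ∈ (P : Subgroup G), t ∉ N → ∀ x ∈ Q, Commute t x → x = 1 := by
    intro t htP htN x hx hc
    refine hcop x hx ?_
    obtain ⟨k, hk⟩ := P.2 ⟨t, htP⟩
    have hk' : t ^ p ^ k = 1 := by simpa using congrArg Subtype.val hk
    refine ⟨k, orderOf_dvd_iff_pow_eq_one.1 ?_⟩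
    exact (orderOf_dvd_of_pow_eq_one (pow_orderOf_eq_one_of_commute hcam htN (hQN hx) hc)).trans
      (orderOf_dvd_of_pow_eq_one hk')
  set A : Subgroup (P : Subgroup G) := N.subgroupOf P
  haveI : A.Normal := Subgroup.Normal.subgroupOf hN _
  have hker : A ≤ ((MulAut.conjNormal : G →* MulAut Q).comp (P : Subgroup G).subtype).ker := by
    intro t ht
    rw [MonoidHom.mem_ker]
    refine MulEquiv.ext fun x => Subtype.ext ?_
    rw [MonoidHom.comp_apply, MulAut.conjNormal_apply, Subgroup.coe_subtype,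
      (hPQ t t.2 (mem_subgroupOf.1 ht) x x.2).eq, mul_inv_cancel_right]
    rfl
  set φ := QuotientGroup.lift A _ hker
  have hφ : CfsgLib.Frobenius.IsFpf φ := by
    intro e he k hk
    obtain ⟨t, rfl⟩ := QuotientGroup.mk_surjective e
    have htN : (t : G) ∉ N := fun h => he ((QuotientGroup.eq_one_iff t).2 (mem_subgroupOf.2 h))
    have h1 : (t : G) * (k : G) * (t : G)⁻¹ = (k : G) := by
      have := congrArg Subtype.val hk
      simpa [φ] using this
    exact Subtype.ext (hfpf t t.2 htN k k.2 (mul_inv_eq_iff_eq_mul.1 h1))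
  have hEp : IsPGroup p ((P : Subgroup G) ⧸ A) := P.2.to_quotient A
  -- the Sylow subgroup of `G ⧸ N`
  set R : Sylow p (G ⧸ N) := P.mapSurjective (QuotientGroup.mk'_surjective N) with hRdef
  have hRcoe : (R : Subgroup (G ⧸ N)) = (P : Subgroup G).map (QuotientGroup.mk' N) :=
    Sylow.coe_mapSurjective _ _
  let ω : (P : Subgroup G) →* G ⧸ N := (QuotientGroup.mk' N).comp (P : Subgroup G).subtype
  have hωk : ω.ker = A := by
    ext t
    simp [ω, A, mem_subgroupOf, QuotientGroup.eq_one_iff]
  have hωr : ω.range = (R : Subgroup (G ⧸ N)) := by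
    rw [hRcoe, MonoidHom.range_comp, range_subtype]
  have hR : IsCyclic R ∨ (p = 2 ∧ ∃ n : ℕ, 1 ≤ n ∧ Nonempty (R ≃* QuaternionGroup (2 ^ n))) := by
    let e : (P : Subgroup G) ⧸ A ≃* R :=
      ((QuotientGroup.quotientMulEquivOfEq hωk.symm).trans
        (QuotientGroup.quotientKerEquivRange ω)).trans (MulEquiv.subgroupCongr hωr)
    rcases CfsgLib.UniqueInvol.cyclic_or_quaternion hEp
      (CfsgLib.FpfComplement.unique_prime_order hφ hEp) with h | ⟨h2, n, hn, ⟨e'⟩⟩
    · exact Or.inl (e.isCyclic.1 h)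
    · exact Or.inr ⟨h2, n, hn, ⟨e.symm.trans e'⟩⟩
  have hR1 : (R : Subgroup (G ⧸ N)) ≠ ⊥ := by
    intro h
    have := R.not_dvd_index
    rw [h, index_bot, ← index_eq_card] at this
    exact this hpi
  obtain ⟨a, haR, ha1, hsmall⟩ := exists_small_centralizer R hR1 hR
  rw [hRcoe] at haR
  obtain ⟨g, hgP, rfl⟩ := haR
  have hgN : g ∉ N := fun h => ha1 ((QuotientGroup.eq_one_iff g).2 h)
  have hcard := (Cfsg.Agent.S4142.result N).1 hcam g hgN
  refine hsmall (show p * orderOf (g : G ⧸ N) ∣ _ from ?_)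
  rw [QuotientGroup.mk'_apply, ← hcard]
  set m := orderOf (g : G ⧸ N)
  set C := centralizer ({g} : Set G)
  have hgC : g ∈ C := mem_centralizer_singleton_iff.2 rfl
  have hgm : g ^ m ∈ N := by
    rw [← QuotientGroup.eq_one_iff, QuotientGroup.mk_pow, pow_orderOf_eq_one]
  have hmdvd : m ∣ orderOf g := orderOf_map_dvd (QuotientGroup.mk' N) g
  by_cases hgm1 : g ^ m = 1
  · have hog : orderOf g = m := dvd_antisymm (orderOf_dvd_of_pow_eq_one hgm1) hmdvd
    -- a central element of order `p` of `P` in `N`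
    have hA1 : A ≠ ⊥ := by
      intro h
      have h1 : (P : Subgroup G) ⊓ N = ⊥ := by
        rw [eq_bot_iff]
        intro x hx
        have : (⟨x, hx.1⟩ : (P : Subgroup G)) ∈ A := mem_subgroupOf.2 hx.2
        rw [h, mem_bot] at this
        exact congrArg Subtype.val this
      have h2 : (P : Subgroup G).relIndex N ∣ (P : Subgroup G).index :=
        CfsgLib.Kazarin.relIndex_dvd (P : Subgroup G) N
      rw [← inf_relIndex_right, h1, relIndex_bot_left] at h2
      exact P.not_dvd_index (hpN.trans h2)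
    haveI := P.2.isNilpotent
    have hZ : A ⊓ center (P : Subgroup G) ≠ ⊥ := CfsgLib.PGroupBasic.inf_center_ne_bot A hA1
    haveI : Nontrivial ↥(A ⊓ center (P : Subgroup G)) := (nontrivial_iff_ne_bot _).2 hZ
    obtain ⟨z, hz⟩ := exists_prime_orderOf_dvd_card' (G := ↥(A ⊓ center (P : Subgroup G))) p
      ((((P.2.to_subgroup _).card_eq_or_dvd)).resolve_left Finite.one_lt_card.ne')
    set w : G := (((z : (P : Subgroup G)) : G))
    have how : orderOf w = p := by rw [Subgroup.orderOf_coe, Subgroup.orderOf_coe, hz]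
    have hwN : w ∈ N := mem_subgroupOf.1 z.2.1
    have hwc : Commute g w :=
      congrArg Subtype.val (mem_center_iff.1 z.2.2 ⟨g, hgP⟩)
    have hinf : zpowers g ⊓ zpowers w = ⊥ := by
      rw [eq_bot_iff]
      rintro x ⟨⟨i, rfl⟩, hx2⟩
      have h1 : g ^ i ∈ N := zpowers_le.2 hwN hx2
      rw [← QuotientGroup.eq_one_iff, QuotientGroup.mk_zpow, ← orderOf_dvd_iff_zpow_eq_one] at h1
      show g ^ i = 1
      rw [← orderOf_dvd_iff_zpow_eq_one, hog]
      exact h1
    have hle : zpowers g ⊔ zpowers w ≤ C :=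
      sup_le (zpowers_le.2 hgC) (zpowers_le.2 (mem_centralizer_singleton_iff.2 hwc.symm))
    have hk := CfsgLib.Solvable.card_sup_mul_card_inf (A := zpowers g) (K := zpowers w) (by
      rw [zpowers_le, mem_normalizer_iff]
      intro y
      constructor
      · rintro ⟨k, rfl⟩
        refine ⟨k, ?_⟩
        show w ^ k = g * w ^ k * g⁻¹
        rw [(hwc.zpow_right k).eq, mul_inv_cancel_right]
      · rintro ⟨k, hk⟩
        refine ⟨k, ?_⟩
        show w ^ k = y
        calc w ^ k = g⁻¹ * (g * w ^ k) := (inv_mul_cancel_left _ _).symm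
          _ = g⁻¹ * (w ^ k * g) := by rw [(hwc.zpow_right k).eq]
          _ = y := by rw [show w ^ k = g * y * g⁻¹ from hk]; group)
    rw [hinf, card_bot, mul_one, Nat.card_zpowers, Nat.card_zpowers, hog, how] at hk
    exact (dvd_of_eq (by rw [hk, mul_comm])).trans (card_dvd_of_le hle)
  · obtain ⟨k, hk⟩ := P.2 ⟨g, hgP⟩
    have hk' : orderOf g ∣ p ^ k :=
      orderOf_dvd_of_pow_eq_one (by simpa using congrArg Subtype.val hk)
    obtain ⟨i, -, hi⟩ := (Nat.dvd_prime_pow hp.out).1 hk'
    obtain ⟨j, -, hj⟩ := (Nat.dvd_prime_pow hp.out).1 (hmdvd.trans hk')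
    have hji : j < i := by
      by_contra hle
      push Not at hle
      refine hgm1 (orderOf_dvd_iff_pow_eq_one.1 ?_)
      rw [hi, hj]
      exact pow_dvd_pow p hle
    refine dvd_trans ?_ ((orderOf_mk g hgC) ▸ orderOf_dvd_natCard (⟨g, hgC⟩ : C))
    rw [hi, hj, ← pow_succ']
    exact pow_dvd_pow p hji

/-- Camina's theorem. -/
theorem trichotomy (hN1 : N ≠ ⊥) (hN2 : N ≠ ⊤)
    (hcam : ∀ g : G, g ∉ N → ∀ n ∈ N, ∃ x : G, x * g * x⁻¹ = g * n) :
    (∀ x ∈ N, x ≠ 1 → centralizer ({x} : Set G) ≤ N) ∨ IsPrimePow (Nat.card N) ∨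
      IsPrimePow N.index := by
  classical
  by_cases hcop : (Nat.card N).Coprime N.index
  · exact Or.inl fun x hx hx1 => centralizer_le hcam hcop hx hx1
  obtain ⟨p, hp, hpN, hpi⟩ := Nat.Prime.not_coprime_iff_dvd.1 hcop
  refine Or.inr (or_iff_not_imp_left.2 fun hNp => ?_)
  haveI := Fact.mk hp
  have hexq : ∀ (n : ℕ), 1 < n → ¬ IsPrimePow n → ∃ q : ℕ, q.Prime ∧ q ≠ p ∧ q ∣ n := by
    intro n hn hnp
    by_contra hno
    push Not at hno
    exact hnp (isPrimePow_iff_factorization_eq_single.2 ⟨p, n.factorization p, by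
      refine Nat.pos_of_ne_zero fun h0 => ?_
      obtain ⟨r, hr, hrn⟩ := Nat.exists_prime_and_dvd hn.ne'
      by_cases hrp : r = p
      · subst hrp
        exact (hr.factorization_pos_of_dvd (by omega) hrn).ne' h0
      · exact hno r hr hrp hrn, by
      ext r
      by_cases hrp : r = p
      · subst hrp; simp
      · rw [Finsupp.single_eq_of_ne hrp]
        by_contra h0
        exact hno r (Nat.prime_of_mem_primeFactors
          (Nat.support_factorization n ▸ Finsupp.mem_support_iff.2 h0)) hrp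
          (Nat.dvd_of_factorization_pos h0)⟩)
  by_contra hip
  obtain ⟨r, hr, hrp, hri⟩ := hexq _ (one_lt_index_of_ne_top hN2) hip
  haveI := Fact.mk hr
  by_cases hrN : r ∣ Nat.card N
  · -- both primes divide the abelianisation
    have hp' := dvd_index_commutator hcam hpi hpN
    have hr' := dvd_index_commutator hcam hri hrN
    set K : Subgroup G := (commutator N).map N.subtype
    haveI : K.Normal := inferInstance
    set N' := N.map (QuotientGroup.mk' K)
    haveI : N'.Normal := Subgroup.Normal.map hN _ (QuotientGroup.mk'_surjective K)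
    have hKN : K ≤ N := map_subtype_le _
    have hcam' : ∀ g : G ⧸ K, g ∉ N' → ∀ n ∈ N', ∃ x : G ⧸ K, x * g * x⁻¹ = g * n := by
      intro g hg n hn
      obtain ⟨g, rfl⟩ := QuotientGroup.mk'_surjective K g
      obtain ⟨n, hn', rfl⟩ := hn
      obtain ⟨x, hx⟩ := hcam g (fun h => hg (mem_map_of_mem _ h)) n hn'
      exact ⟨QuotientGroup.mk' K x, by rw [← map_inv, ← map_mul, ← map_mul, ← map_mul, hx]⟩
    haveI : IsMulCommutative N' := ⟨⟨by
      rintro ⟨_, a, ha, rfl⟩ ⟨_, b, hb, rfl⟩
      refine Subtype.ext ?_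
      show QuotientGroup.mk' K a * QuotientGroup.mk' K b = QuotientGroup.mk' K b * QuotientGroup.mk' K a
      rw [← map_mul, ← map_mul, QuotientGroup.mk'_eq_mk']
      refine ⟨(a * b)⁻¹ * (b * a), ?_, by group⟩
      refine ⟨⁅(⟨b, hb⟩ : N)⁻¹, (⟨a, ha⟩ : N)⁻¹⁆,
        Subgroup.commutator_mem_commutator (mem_top _) (mem_top _), ?_⟩
      simp [commutatorElement_def, mul_assoc]⟩⟩
    letI : CommGroup N' :=
      { (inferInstance : Group N') with mul_comm := fun a b => (IsMulCommutative.is_comm (M := N')).comm a b }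
    haveI : Group.IsNilpotent N' := CommGroup.isNilpotent
    have hidx : N'.index = N.index := index_map_eq N (QuotientGroup.mk'_surjective K)
      (by rw [QuotientGroup.ker_mk']; exact hKN)
    have hc : Nat.card N' = (commutator N).index := by
      have h1 := N'.card_mul_index
      rw [hidx, ← index_eq_card, index_map_subtype] at h1
      exact Nat.eq_of_mul_eq_mul_right (Nat.pos_of_ne_zero index_ne_zero_of_finite) h1
    exact false_of_nilpotent (N := N') hcam' (p := p) (q := r) (hidx ▸ hpi) (hc ▸ hp') hrp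
      (hc ▸ hr')
  · -- an element of order `r` acts fixed-point-freely on `N`
    obtain ⟨y, hy⟩ := exists_prime_orderOf_dvd_card' (G := G) r (hri.trans (index_dvd_card N))
    have hyN : y ∉ N := fun h => hrN (by
      rw [← hy, ← orderOf_mk y h]; exact orderOf_dvd_natCard _)
    set φ : MulAut N := MulAut.conjNormal y
    have hfix : ∀ k : N, φ k = k → k = 1 := by
      intro k hk
      have h1 : y * (k : G) * y⁻¹ = (k : G) := by
        have := congrArg Subtype.val hk
        rwa [MulAut.conjNormal_apply] at this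
      have h2 := pow_orderOf_eq_one_of_commute hcam hyN k.2 (mul_inv_eq_iff_eq_mul.1 h1)
      rw [hy] at h2
      refine orderOf_eq_one_iff.1 ((Nat.dvd_prime hr).1 ?_ |>.resolve_right fun he => hrN ?_)
      · exact orderOf_dvd_of_pow_eq_one (Subtype.ext (by simpa using h2))
      · rw [← he]; exact orderOf_dvd_natCard k
    have hφr : φ ^ r = 1 := by rw [← map_pow, ← hy, pow_orderOf_eq_one, map_one]
    haveI : Group.IsNilpotent N := CfsgLib.ThompsonNil.isNilpotent hr φ hφr hfix
    obtain ⟨q, hq, hqp, hqN⟩ := hexq _ ((one_lt_card_iff_ne_bot N).2 hN1) hNp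
    haveI := Fact.mk hq
    exact false_of_nilpotent hcam (p := p) (q := q) hpi hpN hqp hqN

end CfsgLib.CaminaPair
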