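import Mathlib

/-!
Two permutations of order dividing a prime whose permutation modules are isomorphic have the same
number of fixed points.
-/

set_option autoImplicit false
set_option linter.style.haveILetI false

namespace CfsgLib.CaminaPair.PermCount

open MulAction

variable {k : Type*} [Field k]

/-- Invariant functions are functions on orbits. -/
noncomputable def invariantsEquiv (H Y : Type*) [Group H] [MulAction H Y] :
    {f : Y → k // ∀ (h : H) (y : Y), f (h • y) = f y} ≃ (Quotient (orbitRel H Y) → k) where
  toFun f := Quotient.lift f.1 fun a b hab => by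
    obtain ⟨h, rfl⟩ := hab
    exact f.2 h b
  invFun g := ⟨fun y => g (Quotient.mk'' y), fun h y => congrArg g (Quotient.sound ⟨h, rfl⟩)⟩
  left_inv f := rfl
  right_inv g := funext fun q => Quotient.inductionOn q fun _ => rfl

/-- The invariant functions as a submodule. -/
def invariants (k : Type*) [Field k] (H Y : Type*) [Group H] [MulAction H Y] :
    Submodule k (Y → k) where
  carrier := {f | ∀ (h : H) (y : Y), f (h • y) = f y}
  add_mem' := fun hf hg h y => by simp [hf h y, hg h y]
  zero_mem' := fun _ _ => rfl
  smul_mem' := fun c f hf h y => by simp [hf h y]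

theorem finrank_invariants (H Y : Type*) [Group H] [MulAction H Y] [Finite Y] :
    Module.finrank k (invariants k H Y) = Nat.card (Quotient (orbitRel H Y)) := by
  classical
  haveI : Fintype (Quotient (orbitRel H Y)) := Fintype.ofFinite _
  let e : invariants k H Y ≃ₗ[k] (Quotient (orbitRel H Y) → k) :=
    { invariantsEquiv H Y with
      map_add' := fun f g => funext fun q => Quotient.inductionOn q fun _ => rfl
      map_smul' := fun c f => funext fun q => Quotient.inductionOn q fun _ => rfl }
  rw [e.finrank_eq, Module.finrank_pi, Nat.card_eq_fintype_card]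

theorem finrank_invariants_eq {H Y X : Type*} [Group H] [MulAction H Y] [MulAction H X] [Finite Y]
    (e : (Y → k) ≃ₗ[k] (X → k))
    (he : ∀ (h : H) (f : Y → k) (x : X), e (fun y => f (h • y)) x = e f (h • x)) :
    Module.finrank k (invariants k H Y) = Module.finrank k (invariants k H X) := by
  refine (e.submoduleMap (invariants k H Y)).finrank_eq.trans ?_
  congr 2
  all_goals
    ext g
    constructor
    · rintro ⟨f, hf, rfl⟩ h x
      have h1 : (fun y => f (h • y)) = f := funext fun y => hf h y
      show e f (h • x) = e f x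
      rw [← he h f x, h1]
    · intro hg
      refine ⟨e.symm g, fun h y => ?_, e.apply_symm_apply g⟩
      have h1 : e (fun y => e.symm g (h • y)) = e (e.symm g) := by
        funext x
        rw [he h, e.apply_symm_apply, hg h x]
      exact congrFun (e.injective h1) y

theorem burnside_prime {H Y : Type*} [Group H] [Finite H] [MulAction H Y] [Finite Y]
    {a : H} (ha : ∀ b : H, b ≠ 1 → ∀ y : Y, b • y = y ↔ a • y = y) :
    Nat.card (Quotient (orbitRel H Y)) * Nat.card H =
      Nat.card Y + (Nat.card H - 1) * Nat.card {y : Y // a • y = y} := by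
  classical
  haveI : Fintype H := Fintype.ofFinite H
  haveI : Fintype Y := Fintype.ofFinite Y
  haveI : Fintype (Quotient (orbitRel H Y)) := Fintype.ofFinite _
  have hB := sum_card_fixedBy_eq_card_orbits_mul_card_group H Y
  rw [Nat.card_eq_fintype_card (α := Quotient (orbitRel H Y)), Nat.card_eq_fintype_card (α := H),
    ← hB, ← Finset.add_sum_erase _ _ (Finset.mem_univ (1 : H))]
  congr 1
  · rw [Nat.card_eq_fintype_card]
    exact Fintype.card_congr (Equiv.subtypeUnivEquiv fun y => one_smul H y)
  · rw [Finset.sum_eq_card_nsmul (b := Fintype.card {y : Y // a • y = y}), smul_eq_mul,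
      Finset.card_erase_of_mem (Finset.mem_univ _), Finset.card_univ, Nat.card_eq_fintype_card]
    intro b hb
    exact Fintype.card_congr (Equiv.subtypeEquivRight fun y => ha b (Finset.ne_of_mem_erase hb) y)

theorem fix_iff {H Z : Type*} [Group H] [MulAction H Z] {a b : H} (hab : a ∈ Subgroup.zpowers b)
    (hba : b ∈ Subgroup.zpowers a) (z : Z) : b • z = z ↔ a • z = z :=
  ⟨fun h => (Subgroup.zpowers_le.2 (show b ∈ stabilizer H z from h)) hab,
    fun h => (Subgroup.zpowers_le.2 (show a ∈ stabilizer H z from h)) hba⟩

/-- Brauer's permutation lemma for a permutation of prime order. -/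
theorem card_fixed_eq {p : ℕ} [hp : Fact p.Prime] {Y X : Type*} [Finite Y] [Finite X]
    (σ : Equiv.Perm Y) (τ : Equiv.Perm X) (hσ : σ ^ p = 1) (hτ : τ ^ p = 1)
    (e : (Y → k) ≃ₗ[k] (X → k)) (he : ∀ (f : Y → k) (x : X), e (fun y => f (σ y)) x = e f (τ x)) :
    Nat.card {y : Y // σ y = y} = Nat.card {x : X // τ x = x} := by
  classical
  have hYX : Nat.card Y = Nat.card X := by
    haveI := Fintype.ofFinite Y
    haveI := Fintype.ofFinite X
    have := e.finrank_eq
    rwa [Module.finrank_pi, Module.finrank_pi, ← Nat.card_eq_fintype_card,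
      ← Nat.card_eq_fintype_card] at this
  set g : Equiv.Perm Y × Equiv.Perm X := (σ, τ) with hg
  have hgp : g ^ p = 1 := Prod.ext hσ hτ
  set H := Subgroup.zpowers g
  letI : MulAction H Y := MulAction.compHom Y ((MonoidHom.fst _ _).comp H.subtype)
  letI : MulAction H X := MulAction.compHom X ((MonoidHom.snd _ _).comp H.subtype)
  rcases hp.out.eq_one_or_self_of_dvd _ (orderOf_dvd_of_pow_eq_one hgp) with h1 | h1
  · have hg1 : g = 1 := orderOf_eq_one_iff.1 h1
    have hσ1 : σ = 1 := congrArg Prod.fst hg1
    have hτ1 : τ = 1 := congrArg Prod.snd hg1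
    rw [Nat.card_congr (Equiv.subtypeUnivEquiv fun y => by simp [hσ1]),
      Nat.card_congr (Equiv.subtypeUnivEquiv fun x => by simp [hτ1]), hYX]
  let a : H := ⟨g, Subgroup.mem_zpowers g⟩
  have hcard : Nat.card H = p := (Nat.card_zpowers g).trans h1
  have hgen : ∀ b : H, b ≠ 1 → a ∈ Subgroup.zpowers b := fun b hb => by
    have hbo : orderOf b = p := by
      rcases hp.out.eq_one_or_self_of_dvd _ (hcard ▸ orderOf_dvd_natCard b) with h | h
      · exact absurd (orderOf_eq_one_iff.1 h) hb
      · exact h
    have : Subgroup.zpowers b = ⊤ :=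
      Subgroup.eq_top_of_card_eq _ ((Nat.card_zpowers b).trans (hbo.trans hcard.symm))
    rw [this]; exact Subgroup.mem_top _
  have ha : ∀ b : H, b ≠ 1 → b ∈ Subgroup.zpowers a := fun b _ => by
    obtain ⟨i, hi⟩ := b.2
    exact ⟨i, Subtype.ext (by simpa [a] using hi)⟩
  have hfixY : ∀ b : H, b ≠ 1 → ∀ y : Y, b • y = y ↔ a • y = y := fun b hb y =>
    fix_iff (hgen b hb) (ha b hb) y
  have hfixX : ∀ b : H, b ≠ 1 → ∀ x : X, b • x = x ↔ a • x = x := fun b hb x =>
    fix_iff (hgen b hb) (ha b hb) x
  have hY := burnside_prime (H := H) (Y := Y) (a := a) hfixY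
  have hX := burnside_prime (H := H) (Y := X) (a := a) hfixX
  have he' : ∀ (h : H) (f : Y → k) (x : X), e (fun y => f (h • y)) x = e f (h • x) := by
    have hn : ∀ (i : ℕ) (f : Y → k) (x : X),
        e (fun y => f ((σ ^ i) y)) x = e f ((τ ^ i) x) := by
      intro i
      induction i with
      | zero => intro f x; simp
      | succ i ih =>
        intro f x
        have := he (fun y => f ((σ ^ i) y)) x
        simp only [pow_succ, Equiv.Perm.mul_apply]
        rw [this, ih f]
    intro h f x
    obtain ⟨i, hi⟩ := (Submonoid.mem_powers_iff _ _).1 (mem_powers_iff_mem_zpowers.2 h.2)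
    have h1 : h.1.1 = σ ^ i := by rw [← hi]; rfl
    have h2 : h.1.2 = τ ^ i := by rw [← hi]; rfl
    show e (fun y => f (h.1.1 y)) x = e f (h.1.2 x)
    rw [h1, h2]
    exact hn i f x
  have horb := finrank_invariants_eq (k := k) (H := H) e he'
  rw [finrank_invariants, finrank_invariants] at horb
  rw [horb, hX, hYX, hcard] at hY
  have h2 : 0 < p - 1 := Nat.sub_pos_of_lt hp.out.one_lt
  rw [hcard] at hX
  have hY' : Nat.card {y : Y // a • y = y} = Nat.card {y : Y // σ y = y} := rfl
  have hX' : Nat.card {x : X // a • x = x} = Nat.card {x : X // τ x = x} := rfl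
  rw [← hY', ← hX']
  exact (Nat.eq_of_mul_eq_mul_left h2 (by omega)).symm

end CfsgLib.CaminaPair.PermCount
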