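import Cfsg.Agent.CaminaPair.Main
import Cfsg.Agent.S4142
import Cfsg.Agent.CaminaPair.Action
import Cfsg.Agent.LocalB.Tate
import Cfsg.Agent.Transfer.Tate
import Cfsg.Agent.FGSA.ThompsonNil
import Cfsg.Agent.OrderFour.Main

/-!
The kernel of a Camina pair is solvable.
-/

set_option autoImplicit false
set_option linter.style.haveILetI false
set_option linter.unusedSectionVars false

namespace CfsgLib.CaminaPair

universe u

variable {G : Type u} [Group G] [Finite G] {N : Subgroup G} [hN : N.Normal]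

/-- When every element outside acts fixed-point-freely, the kernel is nilpotent. -/
theorem isNilpotent_of_fpf (hN2 : N ≠ ⊤)
    (h : ∀ x ∈ N, x ≠ 1 → Subgroup.centralizer ({x} : Set G) ≤ N) : Group.IsNilpotent N := by
  obtain ⟨g, hg⟩ : ∃ g, g ∉ N := by
    by_contra hall
    exact hN2 (eq_top_iff.2 fun x _ => by_contra fun hx => hall ⟨x, hx⟩)
  set m := orderOf (g : G ⧸ N) with hm
  have hm1 : m ≠ 1 := fun h1 => hg ((QuotientGroup.eq_one_iff g).1 (orderOf_eq_one_iff.1 h1))
  obtain ⟨q, hq, hqm⟩ := Nat.exists_prime_and_dvd hm1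
  set g' := g ^ (m / q) with hg'
  have hg'N : g' ∉ N := by
    intro h1
    rw [hg', ← QuotientGroup.eq_one_iff, QuotientGroup.mk_pow, ← orderOf_dvd_iff_pow_eq_one] at h1
    have hpos : 0 < m / q :=
      Nat.div_pos (Nat.le_of_dvd (orderOf_pos _) hqm) hq.pos
    exact absurd (Nat.le_of_dvd hpos h1) (not_le.2 (Nat.div_lt_self (orderOf_pos _) hq.one_lt))
  have hg'q : g' ^ q ∈ N := by
    rw [← QuotientGroup.eq_one_iff, hg', ← pow_mul, Nat.div_mul_cancel hqm, QuotientGroup.mk_pow]
    exact pow_orderOf_eq_one _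
  have hg'1 : g' ^ q = 1 := by
    by_contra hne
    exact hg'N (h _ hg'q hne (Subgroup.mem_centralizer_singleton_iff.2
      (Commute.pow_self g' q).symm))
  refine CfsgLib.ThompsonNil.isNilpotent (G := N) hq (MulAut.conjNormal g') ?_ ?_
  · rw [← map_pow, hg'1, map_one]
  · intro x hx
    by_contra hx1
    refine hg'N (h x x.2 (fun h' => hx1 (Subtype.ext h')) (Subgroup.mem_centralizer_singleton_iff.2 ?_))
    have h2 := congrArg Subtype.val hx
    rw [MulAut.conjNormal_apply] at h2
    exact (mul_inv_eq_iff_eq_mul.1 h2 : g' * (x : G) = x * g')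

/-- A group on which a Camina pair of `p`-groups acts fixed-point-freely outside the smaller group
is solvable. -/
theorem isSolvable_of_action {P : Type*} [Group P] [Finite P] {Q : Subgroup P} [Q.Normal] {p : ℕ}
    [hp : Fact p.Prime] (hP : IsPGroup p P)
    (hcam : ∀ g : P, g ∉ Q → ∀ q ∈ Q, ∃ y : P, y * g * y⁻¹ = g * q) (hQtop : Q ≠ ⊤)
    {M : Type u} [Group M] [Finite M] [MulDistribMulAction P M]
    (hcop : (Nat.card P).Coprime (Nat.card M))
    (hfpf : ∀ h : P, h ∉ Q → ∀ x : M, h • x = x → x = 1) : Group.IsSolvable M := by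
  classical
  obtain ⟨g, hg⟩ : ∃ g, g ∉ Q := by
    by_contra hall
    exact hQtop (eq_top_iff.2 fun x _ => by_contra fun hx => hall ⟨x, hx⟩)
  obtain ⟨e, he⟩ := IsPGroup.iff_orderOf.1 (hP.to_quotient Q) (g : P ⧸ Q)
  obtain ⟨e, rfl⟩ : ∃ e', e = e' + 1 := by
    refine ⟨e - 1, (Nat.succ_pred_eq_of_ne_zero ?_).symm⟩
    rintro rfl
    exact hg ((QuotientGroup.eq_one_iff g).1 (orderOf_eq_one_iff.1 (he.trans (pow_zero p))))
  set a := g ^ p ^ e with ha
  have haQ : a ∉ Q := by
    intro h
    have h1 := orderOf_dvd_of_pow_eq_one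
      ((QuotientGroup.mk_pow Q g _).symm.trans ((QuotientGroup.eq_one_iff _).2 h))
    rw [he] at h1
    exact absurd (Nat.le_of_dvd (pow_pos hp.out.pos _) h1)
      (not_le.2 (Nat.pow_lt_pow_right hp.out.one_lt (by omega)))
  have hap : a ^ p ∈ Q := by
    rw [ha, ← pow_mul, ← pow_succ, ← QuotientGroup.eq_one_iff, QuotientGroup.mk_pow, ← he,
      pow_orderOf_eq_one]
  let c : MulAut M := MulDistribMulAction.toMulEquiv M a
  have hcn : ∀ (n : ℕ) (x : M), (c ^ n) x = a ^ n • x := by
    intro n x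
    induction n with
    | zero => simp
    | succ n ih =>
      rw [pow_succ', MulAut.mul_apply, ih, pow_succ', mul_smul]
      rfl
  have hcfix : ∀ x : M, c x = x → x = 1 := fun x hx => hfpf a haQ x hx
  have hnil : (∀ x : M, (a ^ p) • x = x) → Group.IsSolvable M := fun h => by
    have := CfsgLib.ThompsonNil.isNilpotent hp.out c (MulEquiv.ext fun x => by rw [hcn, h]; rfl) hcfix
    exact IsNilpotent.to_isSolvable
  by_cases hQ1 : Q = ⊥
  · subst hQ1
    refine hnil fun x => ?_
    rw [Subgroup.mem_bot.1 hap, one_smul]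
  by_cases hp2 : p = 2
  · subst hp2
    set L := Subgroup.closure {x : P | ∃ q ∈ Q, x = q * q}
    haveI : L.Normal := by
      refine ⟨fun x hx w => ?_⟩
      have hle : L ≤ L.comap (MulAut.conj w).toMonoidHom := by
        rw [Subgroup.closure_le]
        rintro _ ⟨q, hq, rfl⟩
        exact Subgroup.subset_closure
          ⟨w * q * w⁻¹, Subgroup.Normal.conj_mem inferInstance q hq w,
            by simp [mul_assoc]⟩
      exact hle hx
    have hLQ : L ≤ Q := by
      rw [Subgroup.closure_le]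
      rintro _ ⟨q, hq, rfl⟩
      exact Q.mul_mem hq hq
    refine CfsgLib.OrderFour.isSolvable c (MulEquiv.ext fun x => ?_) hcfix
    rw [hcn, show a ^ 4 = a ^ 2 * a ^ 2 by rw [← pow_add]]
    exact Action.trivial_of_coprime hP hcam hQ1 hQtop hcop hfpf hLQ (fun _ => le_rfl) _
      (Subgroup.subset_closure ⟨a ^ 2, hap, rfl⟩) x
  · exact hnil fun x => Action.trivial_of_coprime hP hcam hQ1 hQtop hcop hfpf le_rfl
      (fun h => absurd h hp2) _ hap x

/-- The kernel of a Camina pair is solvable. -/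
theorem isSolvable_kernel (hN1 : N ≠ ⊥) (hN2 : N ≠ ⊤)
    (hcam : ∀ g : G, g ∉ N → ∀ n ∈ N, ∃ x : G, x * g * x⁻¹ = g * n) : Group.IsSolvable N := by
  classical
  rcases trichotomy hN1 hN2 hcam with h | h | h
  · have := isNilpotent_of_fpf hN2 h
    exact IsNilpotent.to_isSolvable
  · obtain ⟨q, n, hq, -, hn⟩ := (isPrimePow_nat_iff _).1 h
    haveI := Fact.mk hq
    have := (IsPGroup.of_card hn.symm).isNilpotent
    exact IsNilpotent.to_isSolvable
  obtain ⟨p, n, hp, hn0, hn⟩ := (isPrimePow_nat_iff _).1 h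
  haveI := Fact.mk hp
  obtain ⟨P⟩ := Sylow.nonempty (p := p) (G := G)
  set M := Cfsg.pResidual p G with hMdef
  have hMN : M ≤ N := CfsgLib.PResidual.pResidual_le hn.symm
  haveI hMn : M.Normal := by
    refine ⟨fun x hx w => ?_⟩
    exact CfsgLib.PResidual.map_pResidual_le (MulAut.conj w).toMonoidHom
      (Subgroup.mem_map_of_mem _ hx)
  set Q : Subgroup (P : Subgroup G) := N.subgroupOf P with hQdef
  -- `P N = G` and `G = M P`
  have hMP : ∀ x : G, ∃ m ∈ M, ∃ s ∈ (P : Subgroup G), m * s = x := by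
    intro x
    obtain ⟨s, hs⟩ := (CfsgLib.Tate.map_sylow_eq_top P).ge (Subgroup.mem_top (x : G ⧸ M))
    refine ⟨x * (s : G)⁻¹, ?_, s, s.2, inv_mul_cancel_right _ _⟩
    have h1 : ((s : G) : G ⧸ M) = (x : G ⧸ M) := hs
    rw [QuotientGroup.eq] at h1
    have := hMn.conj_mem _ h1 (s : G)
    simpa [mul_assoc] using this
  have hQtop : Q ≠ ⊤ := by
    intro he
    refine hN2 (eq_top_iff.2 fun x _ => ?_)
    obtain ⟨m, hm, s, hs, rfl⟩ := hMP x
    exact N.mul_mem (hMN hm) (Subgroup.mem_subgroupOf.1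
      (he ▸ Subgroup.mem_top (⟨s, hs⟩ : (P : Subgroup G)) : (⟨s, hs⟩ : (P : Subgroup G)) ∈ Q))
  obtain ⟨g, hg⟩ : ∃ g : (P : Subgroup G), g ∉ Q := by
    by_contra hall
    exact hQtop (eq_top_iff.2 fun x _ => by_contra fun hx => hall ⟨x, hx⟩)
  -- centralisers of elements outside are `p`-groups
  have hpC : ∀ x : G, x ∉ N → ∀ c ∈ Subgroup.centralizer ({x} : Set G), ∃ k, c ^ p ^ k = 1 := by
    intro x hx c hc
    have h1 := (Cfsg.Agent.S4142.result N).1 hcam x hx
    have h2 : Nat.card (Subgroup.centralizer ({(QuotientGroup.mk x : G ⧸ N)} : Set (G ⧸ N))) ∣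
        p ^ n := by
      rw [hn, N.index_eq_card]
      exact Subgroup.card_subgroup_dvd_card _
    refine ⟨n, ?_⟩
    have h3 : orderOf (⟨c, hc⟩ : Subgroup.centralizer ({x} : Set G)) ∣ p ^ n :=
      (orderOf_dvd_natCard _).trans (h1 ▸ h2)
    exact congrArg Subtype.val (orderOf_dvd_iff_pow_eq_one.1 h3)
  -- `(P, Q)` is a Camina pair
  set φ : (P : Subgroup G) →* G ⧸ N := (QuotientGroup.mk' N).comp (P : Subgroup G).subtype with hφ
  have hφs : Function.Surjective φ := by
    intro x
    obtain ⟨y, rfl⟩ := QuotientGroup.mk_surjective x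
    obtain ⟨m, hm, s, hs, rfl⟩ := hMP y
    refine ⟨⟨s, hs⟩, ?_⟩
    show ((s : G) : G ⧸ N) = ((m * s : G) : G ⧸ N)
    rw [QuotientGroup.mk_mul, (QuotientGroup.eq_one_iff m).2 (hMN hm), one_mul]
  have hker : φ.ker = Q := by
    ext x
    rw [MonoidHom.mem_ker, hQdef, Subgroup.mem_subgroupOf]
    exact QuotientGroup.eq_one_iff (x : G)
  have hcamP : ∀ h : (P : Subgroup G), h ∉ Q → ∀ q ∈ Q, ∃ y, y * h * y⁻¹ = h * q := by
    intro h hh q hq
    set C₀ := Subgroup.centralizer ({φ h} : Set (G ⧸ N))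
    set Cm : Subgroup (P : Subgroup G) := C₀.comap φ with hCm
    set C := Subgroup.centralizer ({h} : Set (P : Subgroup G))
    have hmem : ∀ y : Cm, h⁻¹ * ((y : (P : Subgroup G)) * h * (y : (P : Subgroup G))⁻¹) ∈ Q := by
      intro y
      rw [← hker, MonoidHom.mem_ker, map_mul, map_mul, map_mul, map_inv, map_inv,
        Subgroup.mem_centralizer_singleton_iff.1 (show φ y ∈ C₀ from y.2)]
      group
    have hCle : C ≤ Cm := fun y hy => Subgroup.mem_centralizer_singleton_iff.2 (by
      rw [← map_mul, ← map_mul, Subgroup.mem_centralizer_singleton_iff.1 hy])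
    let f : Cm ⧸ C.subgroupOf Cm → Q := Quotient.lift (fun y => (⟨_, hmem y⟩ : Q)) fun y z hyz => by
      have h1 : (y⁻¹ * z : Cm) ∈ C.subgroupOf Cm := QuotientGroup.leftRel_apply.1 hyz
      rw [Subgroup.mem_subgroupOf, Subgroup.mem_centralizer_singleton_iff] at h1
      push_cast at h1
      refine Subtype.ext (congrArg (h⁻¹ * ·) ?_)
      calc (y : (P : Subgroup G)) * h * (y : (P : Subgroup G))⁻¹
          = (y : (P : Subgroup G)) * (h * ((y : (P : Subgroup G))⁻¹ * z)) *
              (z : (P : Subgroup G))⁻¹ := by group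
        _ = (y : (P : Subgroup G)) * ((y : (P : Subgroup G))⁻¹ * z * h) *
              (z : (P : Subgroup G))⁻¹ := by rw [h1]
        _ = (z : (P : Subgroup G)) * h * (z : (P : Subgroup G))⁻¹ := by group
    have hf : Function.Injective f := by
      intro y z
      refine Quotient.inductionOn₂ y z fun y z hyz =>
        Quotient.sound (QuotientGroup.leftRel_apply.2 ?_)
      rw [Subgroup.mem_subgroupOf, Subgroup.mem_centralizer_singleton_iff]
      push_cast
      have h1 := mul_left_cancel (congrArg Subtype.val hyz)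
      calc (y : (P : Subgroup G))⁻¹ * z * h
          = (y : (P : Subgroup G))⁻¹ * ((z : (P : Subgroup G)) * h * (z : (P : Subgroup G))⁻¹) *
              z := by group
        _ = (y : (P : Subgroup G))⁻¹ * ((y : (P : Subgroup G)) * h * (y : (P : Subgroup G))⁻¹) *
              z := by rw [h1]
        _ = h * ((y : (P : Subgroup G))⁻¹ * z) := by group
    have hcardCm : Nat.card Cm = Nat.card Q * Nat.card C₀ := by
      have h1 := Cm.card_mul_index
      rw [hCm, Subgroup.index_comap_of_surjective _ hφs, ← hCm] at h1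
      have h2 := C₀.card_mul_index
      have h3 := φ.ker.card_mul_index
      rw [φ.ker.index_eq_card, Nat.card_congr (QuotientGroup.quotientKerEquivOfSurjective φ hφs).toEquiv,
        hker] at h3
      refine Nat.eq_of_mul_eq_mul_right (Nat.pos_of_ne_zero (C₀.index_ne_zero_of_finite)) ?_
      rw [h1, mul_assoc, h2, h3]
    have hC : Nat.card C ≤ Nat.card C₀ := by
      have h1 := (Cfsg.Agent.S4142.result N).1 hcam (h : G) hh
      show _ ≤ Nat.card (Subgroup.centralizer ({((h : G) : G ⧸ N)} : Set (G ⧸ N)))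
      rw [← h1]
      refine Nat.card_le_card_of_injective
        (fun y : C => (⟨((y : (P : Subgroup G)) : G), Subgroup.mem_centralizer_singleton_iff.2
          (congrArg Subtype.val (Subgroup.mem_centralizer_singleton_iff.1 y.2))⟩ :
          Subgroup.centralizer ({(h : G)} : Set G))) ?_
      intro y z hyz
      exact Subtype.ext (Subtype.ext (congrArg Subtype.val hyz :))
    have hcard : Nat.card Q ≤ Nat.card (Cm ⧸ C.subgroupOf Cm) := by
      have h1 := Subgroup.card_eq_card_quotient_mul_card_subgroup (C.subgroupOf Cm)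
      rw [hcardCm, Nat.card_congr (Subgroup.subgroupOfEquivOfLe hCle).toEquiv] at h1
      refine Nat.le_of_mul_le_mul_right (?_ : Nat.card Q * Nat.card C₀ ≤ _ * Nat.card C₀) Nat.card_pos
      rw [h1]
      exact Nat.mul_le_mul_left _ hC
    have hfs : Function.Surjective f :=
      (hf.bijective_of_nat_card_le hcard).2
    obtain ⟨y, hy⟩ := hfs ⟨q, hq⟩
    obtain ⟨y, rfl⟩ := QuotientGroup.mk_surjective y
    exact ⟨y, (inv_mul_eq_iff_eq_mul.1 (congrArg Subtype.val hy : _ = q))⟩
  -- Tate
  have hPM : ∀ x ∈ (P : Subgroup G), x ∈ M → x = 1 := by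
    intro x hxP hxM
    refine congrArg Subtype.val (CfsgLib.LocalB.Tate.inf_pResidual_eq_bot P ?_ ⟨x, hxP⟩ hxM)
    intro y hy
    refine (CfsgLib.PGroupBasic.commutator_pow_le_frattini P.isPGroup').1 ?_
    obtain ⟨w, hw⟩ := hcamP g hg y (hMN hy)
    open scoped commutatorElement in
    have e4 : y = ⁅g⁻¹, w⁆ := by
      rw [commutatorElement_def, inv_inv, mul_assoc, mul_assoc, ← mul_assoc w, hw, inv_mul_cancel_left]
    rw [e4]
    exact Subgroup.commutator_mem_commutator (Subgroup.mem_top _) (Subgroup.mem_top _)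
  have hcop : (Nat.card (P : Subgroup G)).Coprime (Nat.card M) := by
    obtain ⟨k, hk⟩ := P.isPGroup'.exists_card_eq
    rw [hk]
    refine Nat.Coprime.pow_left k ((Nat.Prime.coprime_iff_not_dvd hp).2 fun hdvd => ?_)
    obtain ⟨x, hx⟩ := exists_prime_orderOf_dvd_card' (G := M) p hdvd
    have hpg : IsPGroup p (Subgroup.zpowers (x : G)) := by
      refine IsPGroup.of_card (n := 1) ?_
      rw [Nat.card_zpowers, Subgroup.orderOf_coe, hx, pow_one]
    obtain ⟨R, hR⟩ := hpg.exists_le_sylow
    obtain ⟨w, rfl⟩ := MulAction.exists_smul_eq G P R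
    have hxR := hR (Subgroup.mem_zpowers (x : G))
    rw [Sylow.coe_subgroup_smul, Subgroup.mem_pointwise_smul_iff_inv_smul_mem] at hxR
    have hxR' : w⁻¹ * (x : G) * w ∈ (P : Subgroup G) := by simpa [MulAut.smul_def] using hxR
    have h1 := hPM _ hxR' (hMn.conj_mem' _ x.2 w)
    have h2 : (x : G) = 1 := by
      calc (x : G) = w * (w⁻¹ * (x : G) * w) * w⁻¹ := by group
        _ = 1 := by rw [h1, mul_one, mul_inv_cancel]
    rw [OneMemClass.coe_eq_one] at h2
    rw [h2, orderOf_one] at hx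
    exact hp.one_lt.ne hx
  letI : MulDistribMulAction (P : Subgroup G) M :=
    MulDistribMulAction.compHom M ((MulAut.conjNormal (H := M)).comp (P : Subgroup G).subtype)
  have hfpf : ∀ h : (P : Subgroup G), h ∉ Q → ∀ x : M, h • x = x → x = 1 := by
    intro h hh x hx
    have h1 : (h : G) * x * (h : G)⁻¹ = x := congrArg Subtype.val hx
    obtain ⟨k, hk⟩ := hpC (h : G) hh x
      (Subgroup.mem_centralizer_singleton_iff.2 (mul_inv_eq_iff_eq_mul.1 h1).symm)
    have h2 : orderOf x ∣ p ^ k := orderOf_dvd_of_pow_eq_one (Subtype.ext (by simpa using hk))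
    obtain ⟨j, hj⟩ := P.isPGroup'.exists_card_eq
    have h3 : Nat.Coprime (p ^ k) (Nat.card M) := by
      have hne : j ≠ 0 := by
        rintro rfl
        have : (h : (P : Subgroup G)) = 1 := by
          haveI : Subsingleton (P : Subgroup G) := (Nat.card_eq_one_iff_unique.1 (by simpa using hj)).1
          exact Subsingleton.elim _ _
        exact hh (this ▸ Q.one_mem)
      rw [hj] at hcop
      exact ((Nat.coprime_pow_left_iff (Nat.pos_of_ne_zero hne) _ _).1 hcop).pow_left k
    exact orderOf_eq_one_iff.1 (Nat.eq_one_of_dvd_coprimes h3 h2 (orderOf_dvd_natCard x))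
  haveI := isSolvable_of_action (P := (P : Subgroup G)) P.isPGroup' hcamP hQtop hcop hfpf
  -- `N / M` is a `p`-group
  have hNM : IsPGroup p (N ⧸ M.subgroupOf N) := by
    intro x
    obtain ⟨x, rfl⟩ := QuotientGroup.mk_surjective x
    refine ⟨(orderOf (x : G)).factorization p, ?_⟩
    rw [← QuotientGroup.mk_pow, QuotientGroup.eq_one_iff, Subgroup.mem_subgroupOf]
    push_cast
    exact CfsgLib.PResidual.pow_mem_pResidual hp _
  haveI : Group.IsNilpotent (N ⧸ M.subgroupOf N) := hNM.isNilpotent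
  haveI : Group.IsSolvable (N ⧸ M.subgroupOf N) := IsNilpotent.to_isSolvable
  haveI : Group.IsSolvable (M.subgroupOf N) :=
    Group.isSolvable_of_isSolvable_injective (f := (Subgroup.subgroupOfEquivOfLe hMN).toMonoidHom)
      (Subgroup.subgroupOfEquivOfLe hMN).injective
  exact Group.isSolvable_of_ker_le_range (M.subgroupOf N).subtype
    (QuotientGroup.mk' (M.subgroupOf N)) (by simp)

end CfsgLib.CaminaPair
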