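import Cfsg.Agent.CaminaPair.ClassAlgebra

/-!
In a Camina pair `(P, Q)` of `p`-groups the stabiliser in `P` of a homomorphism of the class algebra
of `Q` is never cyclic modulo `Q` (the trivial homomorphism excepted): an element `x` of order `p`
modulo `Q` fixes exactly `|C_Q(x)|` classes, hence at most as many homomorphisms, while
`|C_Q(x)|` is small compared with the orbit of `C_P(x mod Q)`.
-/

set_option autoImplicit false
set_option linter.style.haveILetI false
set_option linter.unusedSectionVars false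

namespace CfsgLib.CaminaPair.Stab

open MonoidAlgebra ClassAlgebra

variable {P : Type*} [Group P] {Q N : Subgroup P} [Q.Normal] [N.Normal] {k : Type*} [Field k]

/-- Conjugation on the class algebra. -/
noncomputable def act (x : P) :
    classAlg k (N.subgroupOf Q) →ₐ[k] classAlg k (N.subgroupOf Q) :=
  ((MonoidAlgebra.domCongr k k (MulAut.conjNormal (H := Q) x)).toAlgHom.comp
    (classAlg k (N.subgroupOf Q)).val).codRestrict _ fun c => by
      refine ⟨fun q r => ?_, fun q hq => ?_⟩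
      · show (MonoidAlgebra.domCongr k k (MulAut.conjNormal x) c.1).coeff (q * r * q⁻¹) =
          (MonoidAlgebra.domCongr k k (MulAut.conjNormal x) c.1).coeff r
        rw [coeff_domCongr, coeff_domCongr]
        simp only [map_mul (MulAut.conjNormal (H := Q) x).symm, map_inv (MulAut.conjNormal (H := Q) x).symm, c.2.1]
      · show (MonoidAlgebra.domCongr k k (MulAut.conjNormal x) c.1).coeff q = 0
        rw [coeff_domCongr]
        refine c.2.2 _ fun h => hq ?_
        rw [Subgroup.mem_subgroupOf, MulAut.conjNormal_symm_apply] at h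
        have := Subgroup.Normal.conj_mem inferInstance _ h x
        rw [Subgroup.mem_subgroupOf]
        simpa [mul_assoc] using this

theorem coeff_act (x : P) (c : classAlg k (N.subgroupOf Q)) (q : Q) :
    (act x c).1.coeff q = c.1.coeff ((MulAut.conjNormal x).symm q) :=
  coeff_domCongr (R := k) (A := k) (MulAut.conjNormal (H := Q) x) c.1 q

theorem act_one (c : classAlg k (N.subgroupOf Q)) : act 1 c = c :=
  Subtype.ext (MonoidAlgebra.ext (Finsupp.ext fun q => by rw [coeff_act, map_one]; rfl))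

theorem act_mul (x y : P) (c : classAlg k (N.subgroupOf Q)) :
    act (x * y) c = act x (act y c) :=
  Subtype.ext (MonoidAlgebra.ext (Finsupp.ext fun q => by
    rw [coeff_act, coeff_act, coeff_act, map_mul]; rfl))

theorem act_of_mem {x : P} (hx : x ∈ Q) (c : classAlg k (N.subgroupOf Q)) : act x c = c :=
  Subtype.ext (MonoidAlgebra.ext (Finsupp.ext fun q => by
    rw [coeff_act]
    refine Eq.trans ?_ (c.2.1 (⟨x, hx⟩ : Q)⁻¹ q)
    congr 1))

noncomputable instance homAction : MulAction P (Homs k (N.subgroupOf Q)) where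
  smul x χ := χ.comp (act x⁻¹)
  one_smul χ := AlgHom.ext fun c => by
    show χ (act 1⁻¹ c) = χ c
    rw [inv_one, act_one]
  mul_smul x y χ := AlgHom.ext fun c => by
    show χ (act (x * y)⁻¹ c) = χ (act y⁻¹ (act x⁻¹ c))
    rw [mul_inv_rev, act_mul]

theorem smul_apply (x : P) (χ : Homs k (N.subgroupOf Q)) (c : classAlg k (N.subgroupOf Q)) :
    (x • χ) c = χ (act x⁻¹ c) := rfl

theorem smul_of_mem {x : P} (hx : x ∈ Q) (χ : Homs k (N.subgroupOf Q)) : x • χ = χ :=
  AlgHom.ext fun c => by rw [smul_apply, act_of_mem (Q.inv_mem hx)]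

theorem le_stabilizer (χ : Homs k (N.subgroupOf Q)) : Q ≤ MulAction.stabilizer P χ :=
  fun _ hx => smul_of_mem hx χ

variable (k N) in
/-- The trivial homomorphism. -/
noncomputable def aug (Q : Subgroup P) [Q.Normal] : Homs k (N.subgroupOf Q) :=
  (MonoidAlgebra.lift k k Q 1).comp (classAlg k (N.subgroupOf Q)).val

theorem smul_aug (x : P) : x • aug N k Q = aug N k Q := by
  refine AlgHom.ext fun c => ?_
  rw [smul_apply]
  have h : (MonoidAlgebra.lift k k Q 1).comp
      (MonoidAlgebra.domCongr k k (MulAut.conjNormal (H := Q) x⁻¹)).toAlgHom =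
      MonoidAlgebra.lift k k Q 1 :=
    MonoidAlgebra.algHom_ext (fun q => by simp) (Subsingleton.elim _ _)
  exact DFunLike.congr_fun h c.1

instance clsAction : MulAction P (Cls (N.subgroupOf Q)) where
  smul x K := ⟨ConjClasses.map (MulAut.conjNormal (H := Q) x).toMonoidHom K.1, by
    obtain ⟨K, hK⟩ := K
    obtain ⟨q, rfl⟩ := ConjClasses.mk_surjective K
    intro u hu
    obtain ⟨w, hw⟩ := isConj_iff.1
      (ConjClasses.mk_eq_mk_iff_isConj.1 (ConjClasses.mem_carrier_iff_mk_eq.1 hu).symm)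
    have hq := hK q ConjClasses.mem_carrier_mk
    rw [Subgroup.mem_subgroupOf] at hq ⊢
    rw [← hw]
    have h1 : (x : P) * q * x⁻¹ ∈ N := Subgroup.Normal.conj_mem inferInstance _ hq x
    have h2 := Subgroup.Normal.conj_mem inferInstance _ h1 (w : P)
    simpa using h2⟩
  one_smul K := Subtype.ext (by
    obtain ⟨q, hq⟩ := ConjClasses.mk_surjective K.1
    show ConjClasses.map _ K.1 = K.1
    rw [← hq]
    exact congrArg ConjClasses.mk (Subtype.ext (by simp)))
  mul_smul x y K := Subtype.ext (by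
    obtain ⟨q, hq⟩ := ConjClasses.mk_surjective K.1
    show ConjClasses.map _ K.1 = ConjClasses.map _ (ConjClasses.map _ K.1)
    rw [← hq]
    exact congrArg ConjClasses.mk (Subtype.ext (by simp [mul_assoc])))

theorem smul_cls_of_mem {x : P} (hx : x ∈ Q) (K : Cls (N.subgroupOf Q)) : x • K = K :=
  Subtype.ext (by
    obtain ⟨q, hq⟩ := ConjClasses.mk_surjective K.1
    show ConjClasses.map _ K.1 = K.1
    rw [← hq]
    refine (ConjClasses.mk_eq_mk_iff_isConj.2 (isConj_iff.2 ⟨⟨x, hx⟩, ?_⟩)).symm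
    exact Subtype.ext (by simp))

variable [Finite P]

/-- An element of order `p` modulo `Q` fixes as many homomorphisms as classes. -/
theorem card_fixed [IsAlgClosed k] {p : ℕ} [Fact p.Prime] (hQ : (Nat.card Q : k) ≠ 0) {x : P}
    (hx : x ^ p ∈ Q) :
    Nat.card {K : Cls (N.subgroupOf Q) // x • K = K} =
      Nat.card {χ : Homs k (N.subgroupOf Q) // x • χ = χ} := by
  let α : classAlg k (N.subgroupOf Q) ≃ₐ[k] classAlg k (N.subgroupOf Q) :=
    AlgEquiv.ofAlgHom (act x⁻¹) (act x)
      (AlgHom.ext fun c => by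
        show act x⁻¹ (act x c) = c
        rw [← act_mul, inv_mul_cancel, act_one])
      (AlgHom.ext fun c => by
        show act x (act x⁻¹ c) = c
        rw [← act_mul, mul_inv_cancel, act_one])
  have hαn : ∀ (i : ℕ) (c : classAlg k (N.subgroupOf Q)), (α ^ i) c = act (x⁻¹ ^ i) c := by
    intro i
    induction i with
    | zero => intro c; rw [pow_zero, pow_zero, act_one]; rfl
    | succ i ih => intro c; rw [pow_succ, pow_succ, AlgEquiv.mul_apply, act_mul, ih]; rfl
  have hαp : α ^ p = 1 := AlgEquiv.ext fun c => by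
    rw [hαn, inv_pow, act_of_mem (Q.inv_mem hx)]; rfl
  let σ : Equiv.Perm (Cls (N.subgroupOf Q)) := MulAction.toPerm x
  have hσp : σ ^ p = 1 := by
    have : σ ^ p = MulAction.toPermHom P (Cls (N.subgroupOf Q)) (x ^ p) :=
      (map_pow (MulAction.toPermHom P (Cls (N.subgroupOf Q))) x p).symm
    exact Equiv.ext fun K => by rw [this]; exact smul_cls_of_mem hx K
  refine ClassAlgebra.card_fixed_eq hQ α σ hσp hαp fun g => ?_
  refine Subtype.ext (MonoidAlgebra.ext (Finsupp.ext fun q => ?_))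
  show _ = (act x⁻¹ _).1.coeff q
  rw [coeff_act]
  have hmem : ∀ r : Q, (∀ u ∈ (ConjClasses.mk r).carrier, u ∈ N.subgroupOf Q) ↔ r ∈ N.subgroupOf Q :=
    fun r => ⟨fun h => h r ConjClasses.mem_carrier_mk, fun h u hu => by
      obtain ⟨w, hw⟩ := isConj_iff.1
        (ConjClasses.mk_eq_mk_iff_isConj.1 (ConjClasses.mem_carrier_iff_mk_eq.1 hu).symm)
      exact hw ▸ Subgroup.Normal.conj_mem inferInstance r h w⟩
  have hcoe : ((MulAut.conjNormal (H := Q) x⁻¹).symm q : P) = x * q * x⁻¹ := by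
    simp [MulAut.conjNormal_symm_apply]
  have hiff : q ∈ N.subgroupOf Q ↔ (MulAut.conjNormal (H := Q) x⁻¹).symm q ∈ N.subgroupOf Q := by
    rw [Subgroup.mem_subgroupOf, Subgroup.mem_subgroupOf, hcoe]
    exact ⟨fun h => Subgroup.Normal.conj_mem inferInstance _ h x, fun h => by
      simpa [mul_assoc] using Subgroup.Normal.conj_mem inferInstance _ h x⁻¹⟩
  simp only [classEquiv, LinearEquiv.coe_symm_mk, MonoidAlgebra.coeff_ofCoeff,
    Finsupp.coe_equivFunOnFinite_symm]
  by_cases h : q ∈ N.subgroupOf Q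
  · rw [dif_pos ((hmem _).2 h), dif_pos ((hmem _).2 (hiff.1 h))]
    refine congrArg g (Subtype.ext ?_)
    show ConjClasses.map _ (ConjClasses.mk q) = _
    refine congrArg ConjClasses.mk (Subtype.ext ?_)
    rw [hcoe]
    simp
  · rw [dif_neg fun hh => h ((hmem _).1 hh), dif_neg fun hh => h (hiff.2 ((hmem _).1 hh))]

/-- The elements centralising `x` modulo `Q`. -/
def cmod (Q : Subgroup P) [Q.Normal] (x : P) : Subgroup P :=
  (Subgroup.centralizer {(x : P ⧸ Q)}).comap (QuotientGroup.mk' Q)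

theorem mem_cmod {x y : P} : y ∈ cmod Q x ↔ x⁻¹ * (y * x * y⁻¹) ∈ Q := by
  rw [cmod, Subgroup.mem_comap, Subgroup.mem_centralizer_singleton_iff, ← QuotientGroup.eq]
  constructor <;> intro h
  · simp only [QuotientGroup.mk'_apply, QuotientGroup.mk_mul, QuotientGroup.mk_inv] at h ⊢
    rw [h, mul_assoc, mul_inv_cancel, mul_one]
  · simp only [QuotientGroup.mk'_apply, QuotientGroup.mk_mul, QuotientGroup.mk_inv] at h ⊢
    rw [eq_mul_inv_iff_mul_eq] at h
    exact h.symm

/-- The coset `xQ` is one orbit of `cmod Q x`. -/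
theorem card_cmod (hcam : ∀ g : P, g ∉ Q → ∀ q ∈ Q, ∃ y : P, y * g * y⁻¹ = g * q) {x : P}
    (hx : x ∉ Q) :
    Nat.card (cmod Q x) = Nat.card Q * Nat.card (Subgroup.centralizer ({x} : Set P)) := by
  set Cm := cmod Q x
  set C := Subgroup.centralizer ({x} : Set P)
  have hC : C ≤ Cm := fun y hy => mem_cmod.2 (by
    rw [Subgroup.mem_centralizer_singleton_iff.1 hy, mul_assoc, mul_inv_cancel, mul_one,
      inv_mul_cancel]; exact Q.one_mem)
  let f : Cm ⧸ C.subgroupOf Cm → Q := Quotient.lift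
    (fun y => (⟨x⁻¹ * ((y : P) * x * (y : P)⁻¹), mem_cmod.1 y.2⟩ : Q)) fun a b hab => by
      have h : (a⁻¹ * b : Cm) ∈ C.subgroupOf Cm := QuotientGroup.leftRel_apply.1 hab
      rw [Subgroup.mem_subgroupOf, Subgroup.mem_centralizer_singleton_iff] at h
      push_cast at h
      refine Subtype.ext (congrArg (x⁻¹ * ·) ?_)
      calc (a : P) * x * (a : P)⁻¹ = (a : P) * (x * ((a : P)⁻¹ * b)) * (b : P)⁻¹ := by group
        _ = (a : P) * ((a : P)⁻¹ * b * x) * (b : P)⁻¹ := by rw [h]
        _ = (b : P) * x * (b : P)⁻¹ := by group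
  have hf : Function.Bijective f := by
    refine ⟨?_, ?_⟩
    · intro a b
      refine Quotient.inductionOn₂ a b fun a b h => Quotient.sound (QuotientGroup.leftRel_apply.2 ?_)
      rw [Subgroup.mem_subgroupOf, Subgroup.mem_centralizer_singleton_iff]
      push_cast
      have h' : (a : P) * x * (a : P)⁻¹ = (b : P) * x * (b : P)⁻¹ :=
        mul_left_cancel (congrArg Subtype.val h)
      calc (a : P)⁻¹ * b * x = (a : P)⁻¹ * ((b : P) * x * (b : P)⁻¹) * b := by group
        _ = (a : P)⁻¹ * ((a : P) * x * (a : P)⁻¹) * b := by rw [h']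
        _ = x * ((a : P)⁻¹ * b) := by group
    · intro q
      obtain ⟨y, hy⟩ := hcam x hx q q.2
      refine ⟨QuotientGroup.mk ⟨y, mem_cmod.2 (by rw [hy, inv_mul_cancel_left]; exact q.2)⟩,
        Subtype.ext ?_⟩
      show x⁻¹ * (y * x * y⁻¹) = q
      rw [hy, inv_mul_cancel_left]
  rw [Subgroup.card_eq_card_quotient_mul_card_subgroup (C.subgroupOf Cm),
    Nat.card_eq_of_bijective f hf, Nat.card_congr (Subgroup.subgroupOfEquivOfLe hC).toEquiv]

/-- An element outside `Q` fixes at most `|C_Q(x)|` classes. -/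
theorem card_fixed_cls_le (hcam : ∀ g : P, g ∉ Q → ∀ q ∈ Q, ∃ y : P, y * g * y⁻¹ = g * q) {x : P}
    (hx : x ∉ Q) :
    Nat.card {K : Cls (N.subgroupOf Q) // x • K = K} ≤
      Nat.card ↥(Subgroup.centralizer ({x} : Set P) ⊓ Q) := by
  classical
  set D := Subgroup.centralizer ({x} : Set P) ⊓ Q
  let rep : Cls (N.subgroupOf Q) → Q := fun K => K.1.out
  have hrep : ∀ K, ConjClasses.mk (rep K) = K.1 := fun K => Quotient.out_eq K.1
  have hw : ∀ K : {K : Cls (N.subgroupOf Q) // x • K = K}, ∃ u : Q,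
      Commute (x * u : P) (rep K.1 : P) := by
    intro K
    have h1 := congrArg Subtype.val K.2
    change ConjClasses.map _ K.1.1 = K.1.1 at h1
    rw [← hrep K.1] at h1
    obtain ⟨w, hw⟩ := isConj_iff.1 (ConjClasses.mk_eq_mk_iff_isConj.1 h1)
    have hw' : (w : P) * (x * rep K.1 * x⁻¹) * (w : P)⁻¹ = rep K.1 := by
      simpa using congrArg Subtype.val hw
    refine ⟨⟨x⁻¹ * w * x, Subgroup.Normal.conj_mem' inferInstance _ w.2 x⟩, ?_⟩
    show x * (x⁻¹ * w * x) * rep K.1 = rep K.1 * (x * (x⁻¹ * w * x))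
    conv_rhs => rw [← hw']
    group
  choose u hu using hw
  have ht : ∀ c : Q, ∃ t : Q, t * (ConjClasses.mk c).out * t⁻¹ = c := fun c =>
    isConj_iff.1 (ConjClasses.mk_eq_mk_iff_isConj.1 (Quotient.out_eq (ConjClasses.mk c)))
  choose t ht using ht
  -- pairs of commuting elements of the coset and of `Q`
  let S := {z : Q × Q // Commute (x * z.1 : P) (z.2 : P)}
  have hS : Nat.card S ≤ Nat.card Q * Nat.card D := by
    have hy : ∀ w : Q, ∃ y : P, y * x * y⁻¹ = x * w := fun w => hcam x hx w w.2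
    choose y hy using hy
    rw [← Nat.card_prod]
    refine Nat.card_le_card_of_injective (fun z : S => (z.1.1,
      (⟨(y z.1.1)⁻¹ * z.1.2 * y z.1.1, ?_, Subgroup.Normal.conj_mem' inferInstance _ z.1.2.2 _⟩ : D)))
      ?_
    · refine Subgroup.mem_centralizer_singleton_iff.2 ?_
      have h := z.2.eq
      rw [← hy] at h
      calc (y z.1.1)⁻¹ * z.1.2 * y z.1.1 * x
          = (y z.1.1)⁻¹ * (z.1.2 * (y z.1.1 * x * (y z.1.1)⁻¹)) * y z.1.1 := by group
        _ = (y z.1.1)⁻¹ * (y z.1.1 * x * (y z.1.1)⁻¹ * z.1.2) * y z.1.1 := by rw [h]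
        _ = x * ((y z.1.1)⁻¹ * z.1.2 * y z.1.1) := by group
    · rintro ⟨⟨a, b⟩, hab⟩ ⟨⟨a', b'⟩, hab'⟩ h
      obtain ⟨rfl, h⟩ := Prod.ext_iff.1 h
      have h2 : (b : P) = b' := by simpa using congrArg Subtype.val h
      obtain rfl : b = b' := Subtype.ext h2
      rfl
  -- the fixed classes times `Q` embed in the pairs
  let c : {K : Cls (N.subgroupOf Q) // x • K = K} → Q → Q := fun K q => q * rep K.1 * q⁻¹
  let z : {K : Cls (N.subgroupOf Q) // x • K = K} × Q → S := fun Kq =>
    ⟨(⟨x⁻¹ * Kq.2 * x, Subgroup.Normal.conj_mem' inferInstance _ Kq.2.2 x⟩ * u Kq.1 *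
        (t (c Kq.1 Kq.2))⁻¹, c Kq.1 Kq.2), by
      obtain ⟨K, q⟩ := Kq
      have hout : (ConjClasses.mk (c K q)).out = rep K.1 := by
        have : ConjClasses.mk (c K q) = K.1.1 := (ConjClasses.mk_eq_mk_iff_isConj.2
          (isConj_iff.2 ⟨q⁻¹, by simp [c, mul_assoc]⟩)).trans (hrep K.1)
        rw [this]
      have htc := ht (c K q)
      rw [hout] at htc
      have htc' : (t (c K q) : P) * rep K.1 * (t (c K q) : P)⁻¹ = (q : P) * rep K.1 * (q : P)⁻¹ := by
        have := congrArg Subtype.val htc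
        simpa [c] using this
      show (x * ((x⁻¹ * q * x : P) * u K * (t (c K q) : P)⁻¹)) * ((q : P) * rep K.1 * (q : P)⁻¹) =
        ((q : P) * rep K.1 * (q : P)⁻¹) * (x * ((x⁻¹ * q * x) * u K * (t (c K q) : P)⁻¹))
      conv_lhs => rw [← htc']
      calc _ = (q : P) * ((x * u K) * rep K.1) * (t (c K q) : P)⁻¹ := by group
        _ = (q : P) * (rep K.1 * (x * u K)) * (t (c K q) : P)⁻¹ := by rw [(hu K).eq]
        _ = _ := by group⟩
  have hz : Function.Injective z := by
    rintro ⟨K, q⟩ ⟨K', q'⟩ h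
    have h1 := congrArg (fun w : S => w.1.2) h
    have h2 := congrArg (fun w : S => w.1.1) h
    simp only [z] at h1 h2
    have hKK : K = K' := by
      refine Subtype.ext (Subtype.ext ?_)
      rw [← hrep K.1, ← hrep K'.1]
      exact ((ConjClasses.mk_eq_mk_iff_isConj.2 (isConj_iff.2 ⟨q, rfl⟩)).trans
        (congrArg ConjClasses.mk h1)).trans
        (ConjClasses.mk_eq_mk_iff_isConj.2 (isConj_iff.2 ⟨q', rfl⟩)).symm
    subst hKK
    rw [h1] at h2
    have h3 := congrArg Subtype.val (mul_right_cancel (mul_right_cancel h2))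
    exact Prod.ext rfl (Subtype.ext (by simpa using h3))
  have h := (Nat.card_le_card_of_injective z hz).trans hS
  rw [Nat.card_prod, mul_comm] at h
  exact Nat.le_of_mul_le_mul_left h Nat.card_pos

variable [IsAlgClosed k] {p : ℕ} [Fact p.Prime]

/-- The main inequality. -/
theorem step (hcam : ∀ g : P, g ∉ Q → ∀ q ∈ Q, ∃ y : P, y * g * y⁻¹ = g * q)
    (hQ : (Nat.card Q : k) ≠ 0) {x t : P} (hx : x ∉ Q) (hxp : x ^ p ∈ Q) (htx : Commute t x)
    {χ : Homs k (N.subgroupOf Q)} (hfix : x • χ = χ) (hχ : χ ≠ aug N k Q)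
    (hcard : Nat.card ↥(MulAction.stabilizer P χ ⊓ cmod Q x) ≤
      Nat.card ↥(Q ⊔ Subgroup.zpowers t)) : False := by
  classical
  haveI := finite_homs (k := k) (N := N.subgroupOf Q)
  set Cm := cmod Q x
  set C := Subgroup.centralizer ({x} : Set P)
  have h1 : Nat.card ↥(C ⊓ Q) * Nat.card ↥(Q ⊔ Subgroup.zpowers t) ≤ Nat.card Cm := by
    rw [card_cmod hcam hx, mul_comm (Nat.card ↥(C ⊓ Q))]
    have ht : Subgroup.zpowers t ≤ C :=
      Subgroup.zpowers_le.2 (Subgroup.mem_centralizer_singleton_iff.2 htx)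
    have e1 : Nat.card ↥(Q ⊔ Subgroup.zpowers t) = Q.relIndex (Subgroup.zpowers t) * Nat.card Q := by
      rw [← Subgroup.relIndex_sup_right, sup_comm]
      have h := ((Q.subgroupOf (Subgroup.zpowers t ⊔ Q))).index_mul_card
      rwa [Nat.card_congr (Subgroup.subgroupOfEquivOfLe le_sup_right).toEquiv, eq_comm] at h
    have e2 : Q.relIndex C * Nat.card ↥(C ⊓ Q) = Nat.card C := by
      rw [inf_comm, ← Subgroup.inf_relIndex_right Q C]
      have h := ((Q ⊓ C).subgroupOf C).index_mul_card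
      rwa [Nat.card_congr (Subgroup.subgroupOfEquivOfLe inf_le_right).toEquiv] at h
    have e3 : Q.relIndex (Subgroup.zpowers t) ≤ Q.relIndex C :=
      Subgroup.relIndex_le_of_le_right ht Subgroup.index_ne_zero_of_finite
    rw [e1, ← e2]
    calc Q.relIndex (Subgroup.zpowers t) * Nat.card Q * Nat.card ↥(C ⊓ Q)
        ≤ Q.relIndex C * Nat.card Q * Nat.card ↥(C ⊓ Q) := by gcongr
      _ = Nat.card Q * (Q.relIndex C * Nat.card ↥(C ⊓ Q)) := by ring
  have hfixorb : ∀ y : Cm, x • ((y : P) • χ) = (y : P) • χ := by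
    intro y
    have hy : x⁻¹ * ((y : P)⁻¹ * x * (y : P)⁻¹⁻¹) ∈ Q := mem_cmod.1 (Cm.inv_mem y.2)
    rw [inv_inv] at hy
    have h2 : ((y : P)⁻¹ * x * y) • χ = χ := by
      have e : (y : P)⁻¹ * x * y = x * (x⁻¹ * ((y : P)⁻¹ * x * y)) := by group
      rw [e, mul_smul, smul_of_mem hy, hfix]
    calc x • (y : P) • χ = (y : P) • (((y : P)⁻¹ * x * y) • χ) := by
          rw [← mul_smul, ← mul_smul]; congr 1; group
      _ = (y : P) • χ := by rw [h2]
  let F := {ψ : Homs k (N.subgroupOf Q) // x • ψ = ψ}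
  let g : Option (MulAction.orbit Cm χ) → F := fun o => o.elim ⟨aug N k Q, smul_aug x⟩
    fun ψ => ⟨ψ.1, by
      obtain ⟨y, hy⟩ := ψ.2
      rw [← hy]
      exact hfixorb y⟩
  have hg : Function.Injective g := by
    have hne : ∀ ψ : MulAction.orbit Cm χ, ψ.1 ≠ aug N k Q := by
      rintro ⟨_, y, rfl⟩ h
      refine hχ ?_
      have h' := congrArg ((y : P)⁻¹ • ·) h
      have h' : (y : P)⁻¹ • ((y : P) • χ) = (y : P)⁻¹ • aug N k Q := h'
      rwa [inv_smul_smul, smul_aug] at h'
    rintro (_ | a) (_ | b) h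
    · rfl
    · exact absurd (congrArg Subtype.val h).symm (hne b)
    · exact absurd (congrArg Subtype.val h) (hne a)
    · exact congrArg some (Subtype.ext (congrArg Subtype.val h :))
  have h2 := Nat.card_le_card_of_injective g hg
  rw [Finite.card_option, ← card_fixed hQ hxp] at h2
  have h2 : _ ≤ Nat.card ↥(C ⊓ Q) := h2.trans (card_fixed_cls_le hcam hx)
  have h3 : Nat.card (MulAction.orbit Cm χ) *
      Nat.card ↥(MulAction.stabilizer P χ ⊓ Cm) = Nat.card Cm := by
    have he : Nat.card ↥(MulAction.stabilizer P χ ⊓ Cm) = Nat.card (MulAction.stabilizer Cm χ) :=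
      Nat.card_congr
        { toFun := fun y => ⟨⟨y.1, y.2.2⟩, y.2.1⟩
          invFun := fun y => ⟨y.1.1, y.2, y.1.2⟩
          left_inv := fun _ => rfl
          right_inv := fun _ => rfl }
    rw [he, ← Nat.card_prod]
    exact Nat.card_congr (MulAction.orbitProdStabilizerEquivGroup Cm χ)
  have h4 : 0 < Nat.card ↥(MulAction.stabilizer P χ ⊓ Cm) := Nat.card_pos
  have h5 := (Nat.mul_le_mul h2 hcard).trans h1
  rw [add_mul, one_mul, h3] at h5
  omega

end CfsgLib.CaminaPair.Stab
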